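import Cfsg.Agent.Fi23Max.Defs

/-! Every point descends to one of two points. -/

set_option autoImplicit false
set_option maxRecDepth 100000
set_option Elab.async false

namespace CfsgLib.Fi23Max

open CfsgLib.CosetEnum

noncomputable section

theorem coverP_16 : allR (coverEntry) 10 16384 = true := by decide +kernel

theorem coverP_17 : allR (coverEntry) 10 17408 = true := by decide +kernel

theorem coverP_18 : allR (coverEntry) 10 18432 = true := by decide +kernel

theorem coverP_19 : allR (coverEntry) 10 19456 = true := by decide +kernel

theorem cover_ok4 : allR coverEntry 12 16384 = true :=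
  (allR_join (d := 11) (lo := 16384) (hi := 18432) (allR_join (d := 10) (lo := 16384) (hi := 17408) coverP_16 (by decide +kernel) coverP_17) (by decide +kernel) (allR_join (d := 10) (lo := 18432) (hi := 19456) coverP_18 (by decide +kernel) coverP_19))

theorem coverP_20 : allR (coverEntry) 10 20480 = true := by decide +kernel

theorem coverP_21 : allR (coverEntry) 10 21504 = true := by decide +kernel

theorem coverP_22 : allR (coverEntry) 10 22528 = true := by decide +kernel

theorem coverP_23 : allR (coverEntry) 10 23552 = true := by decide +kernel

theorem cover_ok5 : allR coverEntry 12 20480 = true :=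
  (allR_join (d := 11) (lo := 20480) (hi := 22528) (allR_join (d := 10) (lo := 20480) (hi := 21504) coverP_20 (by decide +kernel) coverP_21) (by decide +kernel) (allR_join (d := 10) (lo := 22528) (hi := 23552) coverP_22 (by decide +kernel) coverP_23))

theorem coverP_24 : allR (coverEntry) 10 24576 = true := by decide +kernel

theorem coverP_25 : allR (coverEntry) 10 25600 = true := by decide +kernel

theorem coverP_26 : allR (coverEntry) 10 26624 = true := by decide +kernel

theorem coverP_27 : allR (coverEntry) 10 27648 = true := by decide +kernel

theorem cover_ok6 : allR coverEntry 12 24576 = true :=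
  (allR_join (d := 11) (lo := 24576) (hi := 26624) (allR_join (d := 10) (lo := 24576) (hi := 25600) coverP_24 (by decide +kernel) coverP_25) (by decide +kernel) (allR_join (d := 10) (lo := 26624) (hi := 27648) coverP_26 (by decide +kernel) coverP_27))

theorem coverP_28 : allR (coverEntry) 10 28672 = true := by decide +kernel

theorem coverP_29 : allR (coverEntry) 10 29696 = true := by decide +kernel

theorem coverP_30 : allR (coverEntry) 10 30720 = true := by decide +kernel

theorem coverP_31 : allR (coverEntry) 10 31744 = true := by decide +kernel

theorem cover_ok7 : allR coverEntry 12 28672 = true :=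
  (allR_join (d := 11) (lo := 28672) (hi := 30720) (allR_join (d := 10) (lo := 28672) (hi := 29696) coverP_28 (by decide +kernel) coverP_29) (by decide +kernel) (allR_join (d := 10) (lo := 30720) (hi := 31744) coverP_30 (by decide +kernel) coverP_31))

end

end CfsgLib.Fi23Max
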