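import Cfsg.Agent.Fi23Max.Defs

/-! Every point descends to one of two points. -/

set_option autoImplicit false
set_option maxRecDepth 100000
set_option Elab.async false

namespace CfsgLib.Fi23Max

open CfsgLib.CosetEnum

noncomputable section

theorem coverP_0 : allR (coverEntry) 10 0 = true := by decide +kernel

theorem coverP_1 : allR (coverEntry) 10 1024 = true := by decide +kernel

theorem coverP_2 : allR (coverEntry) 10 2048 = true := by decide +kernel

theorem coverP_3 : allR (coverEntry) 10 3072 = true := by decide +kernel

theorem cover_ok0 : allR coverEntry 12 0 = true :=
  (allR_join (d := 11) (lo := 0) (hi := 2048) (allR_join (d := 10) (lo := 0) (hi := 1024) coverP_0 (by decide +kernel) coverP_1) (by decide +kernel) (allR_join (d := 10) (lo := 2048) (hi := 3072) coverP_2 (by decide +kernel) coverP_3))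

theorem coverP_4 : allR (coverEntry) 10 4096 = true := by decide +kernel

theorem coverP_5 : allR (coverEntry) 10 5120 = true := by decide +kernel

theorem coverP_6 : allR (coverEntry) 10 6144 = true := by decide +kernel

theorem coverP_7 : allR (coverEntry) 10 7168 = true := by decide +kernel

theorem cover_ok1 : allR coverEntry 12 4096 = true :=
  (allR_join (d := 11) (lo := 4096) (hi := 6144) (allR_join (d := 10) (lo := 4096) (hi := 5120) coverP_4 (by decide +kernel) coverP_5) (by decide +kernel) (allR_join (d := 10) (lo := 6144) (hi := 7168) coverP_6 (by decide +kernel) coverP_7))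

theorem coverP_8 : allR (coverEntry) 10 8192 = true := by decide +kernel

theorem coverP_9 : allR (coverEntry) 10 9216 = true := by decide +kernel

theorem coverP_10 : allR (coverEntry) 10 10240 = true := by decide +kernel

theorem coverP_11 : allR (coverEntry) 10 11264 = true := by decide +kernel

theorem cover_ok2 : allR coverEntry 12 8192 = true :=
  (allR_join (d := 11) (lo := 8192) (hi := 10240) (allR_join (d := 10) (lo := 8192) (hi := 9216) coverP_8 (by decide +kernel) coverP_9) (by decide +kernel) (allR_join (d := 10) (lo := 10240) (hi := 11264) coverP_10 (by decide +kernel) coverP_11))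

theorem coverP_12 : allR (coverEntry) 10 12288 = true := by decide +kernel

theorem coverP_13 : allR (coverEntry) 10 13312 = true := by decide +kernel

theorem coverP_14 : allR (coverEntry) 10 14336 = true := by decide +kernel

theorem coverP_15 : allR (coverEntry) 10 15360 = true := by decide +kernel

theorem cover_ok3 : allR coverEntry 12 12288 = true :=
  (allR_join (d := 11) (lo := 12288) (hi := 14336) (allR_join (d := 10) (lo := 12288) (hi := 13312) coverP_12 (by decide +kernel) coverP_13) (by decide +kernel) (allR_join (d := 10) (lo := 14336) (hi := 15360) coverP_14 (by decide +kernel) coverP_15))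

end

end CfsgLib.Fi23Max
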