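import Cfsg.Agent.Fi23Max.Base
import Cfsg.Agent.Fi23Max.Data

/-! Decidable checks for a solvable maximal subgroup of `Fi₂₃`. -/

set_option autoImplicit false
set_option maxRecDepth 100000

namespace CfsgLib.Fi23Max

open CfsgLib.CosetEnum

noncomputable section

/-- A point among the 324. -/
def D (e : ℕ) : ℕ := ext dT e

/-- The operation `-(i + j)` on nine symbols. -/
def opI (i j : ℕ) : ℕ := 3 * ((2 * (i / 3) + 2 * (j / 3)) % 3) + (2 * (i % 3) + 2 * (j % 3)) % 3

/-- The part of a label. -/
def cOf (e : ℕ) : ℕ := e / 36

/-- The block of a label in its part. -/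
def kOf (e : ℕ) : ℕ := e % 36 / 9

/-- The coordinate of a label in its block. -/
def iOf (e : ℕ) : ℕ := e % 9

/-- The label with given data. -/
def lab (c k i : ℕ) : ℕ := 36 * c + 9 * k + i

/-- The predicted commuting of labels. -/
def comEq (e f : ℕ) : Bool :=
  Nat.beq (cOf e) (cOf f) && (!(Nat.beq (kOf e) (kOf f)) || Nat.beq (iOf e) (iOf f))

/-- A part. -/
def part : ℕ → ℕ
  | 0 => part0
  | 1 => part1
  | 2 => part2
  | 3 => part3
  | 4 => part4
  | 5 => part5
  | 6 => part6
  | 7 => part7
  | 8 => part8
  | _ => 0

/-- The table of pairs. -/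
def pairOK (e f : ℕ) : Bool :=
  force (mv (D e) (D f)) fun r =>
    (Nat.beq r (D f) == comEq e f) && bit (part (opI (cOf e) (cOf f))) r &&
      (bif Nat.beq (cOf e) (cOf f) && Nat.beq (kOf e) (kOf f) then
        Nat.beq r (D (lab (cOf e) (kOf e) (opI (iOf e) (iOf f)))) else true)

/-- The table of pairs with first entry in one part. -/
def pairEntry (c x : ℕ) : Bool :=
  bif Nat.blt x 11664 then pairOK (36 * c + x / 324) (x % 324) else true

/-- The parts consist of the labelled points. -/
def partEntry (p : ℕ) : Bool :=
  bif Nat.blt p 31671 then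
    (bit allB p == (List.range 9).any fun c => bit (part c) p) &&
    ((List.range 9).all fun c =>
      bif bit (part c) p then (List.range 36).any fun a => Nat.beq (D (36 * c + a)) p else true)
  else true

/-- The labels are points in their parts. -/
def labEntry (e : ℕ) : Bool :=
  bif Nat.blt e 324 then Nat.blt (D e) 31671 && bit (part (cOf e)) (D e) && bit allB (D e) else true

/-- The labels are distinct. -/
def injEntry (e : ℕ) : Bool :=
  bif Nat.blt e 324 then
    force (D e) fun p => (List.range 324).all fun f => !(Nat.beq (D f) p) || Nat.beq f e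
  else true

/-- The map of nine symbols fixed by three images. -/
def affList (u v w : ℕ) : List ℕ :=
  [u, w, opI u w, v, opI (opI v w) u, opI (opI u v) w, opI u v, opI v (opI u w), opI v w]

/-- A map of nine symbols. -/
def affMap (u v w i : ℕ) : ℕ := (affList u v w).getD i 0

/-- A bijection compatible with the operation has order dividing 24. -/
def affOK (x : ℕ) : Bool :=
  bif Nat.blt x 729 then
    let g := affMap (x / 81) (x / 9 % 9) (x % 9)
    bif ((List.range 9).all fun i => (List.range 9).all fun j =>
        Nat.beq (g (opI i j)) (opI (g i) (g j)) && (!(Nat.beq (g i) (g j)) || Nat.beq i j)) then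
      (List.range 9).all fun i => Nat.beq ((List.range 24).foldl (fun y _ => force (g y) fun r => r) i) i
    else true
  else true

/-- Apply a word of transpositions. -/
def app : List ℕ → ℕ → ℕ
  | [], x => x
  | c :: w, x => force (mv c x) fun r => app w r

/-- A word of points. -/
def wordLt (w : List ℕ) : Bool := w.all fun c => Nat.blt c 31671

/-- A move. -/
def mov (m : ℕ) : List ℕ := moves.getD m []

/-- Every other point descends to one of two. -/
def coverEntry (x : ℕ) : Bool :=
  bif Nat.blt x 31671 && !(bit allB x) then
    force (ext (parQ (x / 256)) (x % 256)) fun v =>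
      bif Nat.beq (v / 32) 0 then Nat.beq x 0 || Nat.beq x 3 else
        force (app (mov (v % 32)) x) fun y =>
          !(bit allB y) && Nat.blt (ext (parQ (y / 256)) (y % 256) / 32) (v / 32)
  else true

/-- Saturate by derivations. -/
def closeB : List (ℕ × ℕ) → ℕ → ℕ
  | [], B => B
  | (p, q) :: s, B =>
    bif bit B p && bit B q then force (mv p q) fun r => closeB s (Nat.lor B (Nat.shiftLeft 1 r))
    else closeB s B

/-- The bits at the start of the derivations. -/
def start : ℕ := Nat.lor allB (Nat.shiftLeft 1 3)

/-- The derivations reach the points of the generators. -/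
def derivOK : Bool := force (closeB steps start) fun B => gpt.all fun g => bit B g

/-- Labels probing the point 3. -/
def probes : List ℕ := [6, 36, 109, 17]

/-- The points with the pattern of the point 3 are three. -/
def probeEntry (p : ℕ) : Bool :=
  bif Nat.blt p 31671 && probes.all fun e => com (D e) p == com (D e) 3 then
    [3, 5346, 22707].any (Nat.beq p)
  else true

/-- The table of one of the first seventeen words. -/
def tabM (m : ℕ) : ℕ := moveTab.getD m 0

/-- A word acts on the labels by its table. -/
def moveEntry (m e : ℕ) : Bool :=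
  bif Nat.blt e 324 then
    force (ext (tabM m) e) fun a => Nat.blt a 324 && Nat.beq (app (mov m) (D e)) (D a)
  else true

/-- Compose tables. -/
def compAll : List ℕ → ℕ → ℕ
  | [], e => e
  | P :: Ps, e => force (compAll Ps e) fun x => ext P x

/-- A table is a composition and has the given inverse. -/
def tabOK (seq : List ℕ) (P Q : ℕ) : Bool :=
  (List.range 324).all fun e =>
    Nat.beq (compAll seq e) (ext P e) && force (ext Q e) fun a => Nat.blt a 324 && Nat.beq (ext P a) e

/-- The elements at the bottom. -/
def baseOK : Bool :=
  wit0.all fun x => x.1.all (fun m => Nat.blt m 17) && tabOK (x.1.map tabM) x.2.1 x.2.2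

/-- The first table of an indexed entry. -/
def fwd (prev : List (ℕ × ℕ)) (t : ℕ) : ℕ := (prev.getD t (0, 0)).1

/-- The inverse table of an indexed entry. -/
def bwd (prev : List (ℕ × ℕ)) (t : ℕ) : ℕ := (prev.getD t (0, 0)).2

/-- The composition giving a commutator of products. -/
def commSeq (prev : List (ℕ × ℕ)) (I J : List ℕ) : List ℕ :=
  I.map (fwd prev) ++ J.map (fwd prev) ++ I.reverse.map (bwd prev) ++ J.reverse.map (bwd prev)

/-- One level consists of commutators of products in the level below. -/
def levelOK (prev : List (ℕ × ℕ)) (L : List (List ℕ × List ℕ × ℕ × ℕ)) : Bool :=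
  L.all fun x => (x.1 ++ x.2.1).all (fun t => Nat.blt t prev.length) &&
    tabOK (commSeq prev x.1 x.2.1) x.2.2.1 x.2.2.2

/-- The tables at the bottom. -/
def tabs0 : List (ℕ × ℕ) := wit0.map fun x => x.2

/-- The tables of a level. -/
def tabsOf (L : List (List ℕ × List ℕ × ℕ × ℕ)) : List (ℕ × ℕ) := L.map fun x => x.2.2

/-- A word acts like a product of the last level. -/
def topEntry (I w : List ℕ) (e : ℕ) : Bool :=
  bif Nat.blt e 324 then
    Nat.beq (app w (D e)) (D (compAll (I.map (fwd (tabsOf wit8))) e))
  else true

/-- The word of a commutator. -/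
def commWord (a b : List ℕ) : List ℕ := b.reverse ++ a.reverse ++ b ++ a

end

end CfsgLib.Fi23Max
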