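import Cfsg.Agent.Fi23Max.Defs
import Cfsg.Agent.CosetEnum.Fi23.Setup

/-! Further checks for the solvable maximal subgroup of `Fi₂₃`. -/

set_option autoImplicit false
set_option maxRecDepth 100000
set_option Elab.async false

namespace CfsgLib.Fi23Max

open CfsgLib.CosetEnum

noncomputable section

/-- The edges of the diagram. -/
def chain : List (ℕ × ℕ) := [(0, 1), (1, 2), (2, 3), (3, 4), (4, 5), (5, 6), (6, 7), (3, 8), (8, 9)]

theorem chain_ok : chain.all (fun e => Nat.beq (walkS [e.2, e.1] (gpt.getD e.1 0)) (gpt.getD e.2 0) &&
    decide ([e.1, e.2, e.1, e.2, e.1, e.2] ∈ Fi23.words ∧ [e.1, e.1] ∈ Fi23.words ∧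
      [e.2, e.2] ∈ Fi23.words)) = true := by decide +kernel

theorem part_ok_0 : allR (partEntry) 10 0 = true := by decide +kernel

theorem part_ok_1 : allR (partEntry) 10 1024 = true := by decide +kernel

theorem part_ok_2 : allR (partEntry) 10 2048 = true := by decide +kernel

theorem part_ok_3 : allR (partEntry) 10 3072 = true := by decide +kernel

theorem part_ok_4 : allR (partEntry) 10 4096 = true := by decide +kernel

theorem part_ok_5 : allR (partEntry) 10 5120 = true := by decide +kernel

theorem part_ok_6 : allR (partEntry) 10 6144 = true := by decide +kernel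

theorem part_ok_7 : allR (partEntry) 10 7168 = true := by decide +kernel

theorem part_ok_8 : allR (partEntry) 10 8192 = true := by decide +kernel

theorem part_ok_9 : allR (partEntry) 10 9216 = true := by decide +kernel

theorem part_ok_10 : allR (partEntry) 10 10240 = true := by decide +kernel

theorem part_ok_11 : allR (partEntry) 10 11264 = true := by decide +kernel

theorem part_ok_12 : allR (partEntry) 10 12288 = true := by decide +kernel

theorem part_ok_13 : allR (partEntry) 10 13312 = true := by decide +kernel

theorem part_ok_14 : allR (partEntry) 10 14336 = true := by decide +kernel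

theorem part_ok_15 : allR (partEntry) 10 15360 = true := by decide +kernel

theorem part_ok_16 : allR (partEntry) 10 16384 = true := by decide +kernel

theorem part_ok_17 : allR (partEntry) 10 17408 = true := by decide +kernel

theorem part_ok_18 : allR (partEntry) 10 18432 = true := by decide +kernel

theorem part_ok_19 : allR (partEntry) 10 19456 = true := by decide +kernel

theorem part_ok_20 : allR (partEntry) 10 20480 = true := by decide +kernel

theorem part_ok_21 : allR (partEntry) 10 21504 = true := by decide +kernel

theorem part_ok_22 : allR (partEntry) 10 22528 = true := by decide +kernel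

theorem part_ok_23 : allR (partEntry) 10 23552 = true := by decide +kernel

theorem part_ok_24 : allR (partEntry) 10 24576 = true := by decide +kernel

theorem part_ok_25 : allR (partEntry) 10 25600 = true := by decide +kernel

theorem part_ok_26 : allR (partEntry) 10 26624 = true := by decide +kernel

theorem part_ok_27 : allR (partEntry) 10 27648 = true := by decide +kernel

theorem part_ok_28 : allR (partEntry) 10 28672 = true := by decide +kernel

theorem part_ok_29 : allR (partEntry) 10 29696 = true := by decide +kernel

theorem part_ok_30 : allR (partEntry) 10 30720 = true := by decide +kernel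

theorem part_ok_31 : allR (partEntry) 10 31744 = true := by decide +kernel

theorem part_ok : allR (partEntry) 15 0 = true :=
  (allR_join (d := 14) (lo := 0) (hi := 16384) (allR_join (d := 13) (lo := 0) (hi := 8192) (allR_join (d := 12) (lo := 0) (hi := 4096) (allR_join (d := 11) (lo := 0) (hi := 2048) (allR_join (d := 10) (lo := 0) (hi := 1024) part_ok_0 (by decide +kernel) part_ok_1) (by decide +kernel) (allR_join (d := 10) (lo := 2048) (hi := 3072) part_ok_2 (by decide +kernel) part_ok_3)) (by decide +kernel) (allR_join (d := 11) (lo := 4096) (hi := 6144) (allR_join (d := 10) (lo := 4096) (hi := 5120) part_ok_4 (by decide +kernel) part_ok_5) (by decide +kernel) (allR_join (d := 10) (lo := 6144) (hi := 7168) part_ok_6 (by decide +kernel) part_ok_7))) (by decide +kernel) (allR_join (d := 12) (lo := 8192) (hi := 12288) (allR_join (d := 11) (lo := 8192) (hi := 10240) (allR_join (d := 10) (lo := 8192) (hi := 9216) part_ok_8 (by decide +kernel) part_ok_9) (by decide +kernel) (allR_join (d := 10) (lo := 10240) (hi := 11264) part_ok_10 (by decide +kernel) part_ok_11)) (by decide +kernel) (allR_join (d := 11) (lo := 12288)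 (hi := 14336) (allR_join (d := 10) (lo := 12288) (hi := 13312) part_ok_12 (by decide +kernel) part_ok_13) (by decide +kernel) (allR_join (d := 10) (lo := 14336) (hi := 15360) part_ok_14 (by decide +kernel) part_ok_15)))) (by decide +kernel) (allR_join (d := 13) (lo := 16384) (hi := 24576) (allR_join (d := 12) (lo := 16384) (hi := 20480) (allR_join (d := 11) (lo := 16384) (hi := 18432) (allR_join (d := 10) (lo := 16384) (hi := 17408) part_ok_16 (by decide +kernel) part_ok_17) (by decide +kernel) (allR_join (d := 10) (lo := 18432) (hi := 19456) part_ok_18 (by decide +kernel) part_ok_19)) (by decide +kernel) (allR_join (d := 11) (lo := 20480) (hi := 22528) (allR_join (d := 10) (lo := 20480) (hi := 21504) part_ok_20 (by decide +kernel) part_ok_21) (by decide +kernel) (allR_join (d := 10) (lo := 22528) (hi := 23552) part_ok_22 (by decide +kernel) part_ok_23))) (by decide +kernel) (allR_join (d := 12) (lo := 24576) (hi := 28672) (allR_join (d := 11) (lo := 24576) (hi := 26624) (allR_join (d := 10) (lo := 24576) (hi := 25600) part_ok_24 (by decide +kernel) part_ok_25) (by decide +kernel) (allR_join (d := 10) (lo := 26624)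 (hi := 27648) part_ok_26 (by decide +kernel) part_ok_27)) (by decide +kernel) (allR_join (d := 11) (lo := 28672) (hi := 30720) (allR_join (d := 10) (lo := 28672) (hi := 29696) part_ok_28 (by decide +kernel) part_ok_29) (by decide +kernel) (allR_join (d := 10) (lo := 30720) (hi := 31744) part_ok_30 (by decide +kernel) part_ok_31)))))

theorem lab_ok_0 : allR (labEntry) 7 0 = true := by decide +kernel

theorem lab_ok_1 : allR (labEntry) 7 128 = true := by decide +kernel

theorem lab_ok_2 : allR (labEntry) 7 256 = true := by decide +kernel

theorem lab_ok_3 : allR (labEntry) 7 384 = true := by decide +kernel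

theorem lab_ok : allR (labEntry) 9 0 = true :=
  (allR_join (d := 8) (lo := 0) (hi := 256) (allR_join (d := 7) (lo := 0) (hi := 128) lab_ok_0 (by decide +kernel) lab_ok_1) (by decide +kernel) (allR_join (d := 7) (lo := 256) (hi := 384) lab_ok_2 (by decide +kernel) lab_ok_3))

theorem inj_ok_0 : allR (injEntry) 5 0 = true := by decide +kernel

theorem inj_ok_1 : allR (injEntry) 5 32 = true := by decide +kernel

theorem inj_ok_2 : allR (injEntry) 5 64 = true := by decide +kernel

theorem inj_ok_3 : allR (injEntry) 5 96 = true := by decide +kernel

theorem inj_ok_4 : allR (injEntry) 5 128 = true := by decide +kernel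

theorem inj_ok_5 : allR (injEntry) 5 160 = true := by decide +kernel

theorem inj_ok_6 : allR (injEntry) 5 192 = true := by decide +kernel

theorem inj_ok_7 : allR (injEntry) 5 224 = true := by decide +kernel

theorem inj_ok_8 : allR (injEntry) 5 256 = true := by decide +kernel

theorem inj_ok_9 : allR (injEntry) 5 288 = true := by decide +kernel

theorem inj_ok_10 : allR (injEntry) 5 320 = true := by decide +kernel

theorem inj_ok_11 : allR (injEntry) 5 352 = true := by decide +kernel

theorem inj_ok_12 : allR (injEntry) 5 384 = true := by decide +kernel

theorem inj_ok_13 : allR (injEntry) 5 416 = true := by decide +kernel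

theorem inj_ok_14 : allR (injEntry) 5 448 = true := by decide +kernel

theorem inj_ok_15 : allR (injEntry) 5 480 = true := by decide +kernel

theorem inj_ok : allR (injEntry) 9 0 = true :=
  (allR_join (d := 8) (lo := 0) (hi := 256) (allR_join (d := 7) (lo := 0) (hi := 128) (allR_join (d := 6) (lo := 0) (hi := 64) (allR_join (d := 5) (lo := 0) (hi := 32) inj_ok_0 (by decide +kernel) inj_ok_1) (by decide +kernel) (allR_join (d := 5) (lo := 64) (hi := 96) inj_ok_2 (by decide +kernel) inj_ok_3)) (by decide +kernel) (allR_join (d := 6) (lo := 128) (hi := 192) (allR_join (d := 5) (lo := 128) (hi := 160) inj_ok_4 (by decide +kernel) inj_ok_5) (by decide +kernel) (allR_join (d := 5) (lo := 192) (hi := 224) inj_ok_6 (by decide +kernel) inj_ok_7))) (by decide +kernel) (allR_join (d := 7) (lo := 256) (hi := 384) (allR_join (d := 6) (lo := 256) (hi := 320) (allR_join (d := 5) (lo := 256) (hi := 288) inj_ok_8 (by decide +kernel) inj_ok_9) (by decide +kernel) (allR_join (d := 5) (lo := 320) (hi := 352) inj_ok_10 (by decide +kernel) inj_ok_11)) (by decide +kernel) (allR_join (d := 6) (lo := 384) (hi := 448) (allR_join (d := 5) (lo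 := 384) (hi := 416) inj_ok_12 (by decide +kernel) inj_ok_13) (by decide +kernel) (allR_join (d := 5) (lo := 448) (hi := 480) inj_ok_14 (by decide +kernel) inj_ok_15))))

theorem aff_ok : allR affOK 10 0 = true := by decide +kernel

theorem link_ok : (bit allB (app (mov linkMove) 0) == false &&
    Nat.beq (app (path.flatMap mov) (mv 0 (app (mov linkMove) 0))) 3 &&
    path.all fun m => Nat.blt m 20) = true := by decide +kernel

theorem deriv_ok : derivOK = true := by decide +kernel

end

end CfsgLib.Fi23Max
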