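import Mathlib

/-! Points of periodic orbits of prime period. -/

set_option autoImplicit false

namespace CfsgLib.Fi23Max

open Function

/-- Two coprime periods fix the point. -/
theorem fixed_of_periods {α : Type*} {f : α → α} {x : α} {m n : ℕ} (hm : f^[m] x = x)
    (hn : f^[n] x = x) (hc : m.Coprime n) : f x = x := by
  have h : IsPeriodicPt f (m.gcd n) x := IsPeriodicPt.gcd hm hn
  rwa [hc.gcd_eq_one] at h

/-- A periodic point of prime period inside fewer points than the period is fixed. -/
theorem fixed_of_small {α : Type*} [DecidableEq α] {f : α → α} {x : α} {p : ℕ} (hp : p.Prime)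
    (hx : f^[p] x = x) (s : Finset α) (hs : ∀ j, f^[j] x ∈ s) (hlt : s.card < p) : f x = x := by
  obtain ⟨i, hi, j, hj, hne, he⟩ := Finset.exists_ne_map_eq_of_card_lt_of_maps_to
    (s := Finset.range p) (t := s) (by simpa using hlt) (f := fun j => f^[j] x) (fun j _ => hs j)
  rw [Finset.mem_range] at hi hj
  wlog hij : i < j generalizing i j
  · exact this j hj i hi hne.symm he.symm (by omega)
  have h1 : f^[p - j + i] x = x := by
    have h2 := congrArg (f^[p - j]) he
    rw [← iterate_add_apply, ← iterate_add_apply, Nat.sub_add_cancel hj.le, hx] at h2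
    exact h2
  refine fixed_of_periods h1 hx ((hp.coprime_iff_not_dvd.2 fun hd => ?_).symm)
  have := Nat.le_of_dvd (by omega) hd
  omega

end CfsgLib.Fi23Max
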