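import Cfsg.Agent.Fi23Max.PairCheck
import Cfsg.Agent.Fi23Max.MiscCheck
import Cfsg.Agent.Fi23Max.Periodic

/-! The labels of the 324 points and the maps respecting their structure. -/

set_option autoImplicit false
set_option maxRecDepth 100000

namespace CfsgLib.Fi23Max

open CfsgLib.CosetEnum

noncomputable section

theorem beq_true_iff {a b : ℕ} : Nat.beq a b = true ↔ a = b :=
  ⟨Nat.eq_of_beq_eq_true, fun h => h ▸ Nat.beq_refl a⟩

theorem beq_false_iff {a b : ℕ} : Nat.beq a b = false ↔ a ≠ b := by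
  rw [← Bool.not_eq_true, beq_true_iff]

theorem lab_parts {c k i : ℕ} (hk : k < 4) (hi : i < 9) :
    cOf (lab c k i) = c ∧ kOf (lab c k i) = k ∧ iOf (lab c k i) = i := by
  simp only [cOf, kOf, iOf, lab]
  omega

theorem lab_lt {c k i : ℕ} (hc : c < 9) (hk : k < 4) (hi : i < 9) : lab c k i < 324 := by
  simp only [lab]
  omega

theorem lab_eta (e : ℕ) : lab (cOf e) (kOf e) (iOf e) = e := by
  simp only [cOf, kOf, iOf, lab]
  omega

theorem cOf_lt {e : ℕ} (he : e < 324) : cOf e < 9 := by simp only [cOf]; omega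

theorem kOf_lt (e : ℕ) : kOf e < 4 := by simp only [kOf]; omega

theorem iOf_lt (e : ℕ) : iOf e < 9 := by simp only [iOf]; omega

theorem opI_lt (i j : ℕ) : opI i j < 9 := by simp only [opI]; omega

theorem D_lt {e : ℕ} (he : e < 324) : D e < 31671 ∧ bit allB (D e) = true ∧
    bit (part (cOf e)) (D e) = true := by
  have h := allR_spec 9 0 lab_ok e (Nat.zero_le _) (by omega)
  unfold labEntry at h
  rw [show Nat.blt e 324 = true by simpa using he] at h
  simp only [cond_true, Bool.and_eq_true] at h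
  exact ⟨by simpa using h.1.1, h.2, h.1.2⟩

theorem D_inj {e f : ℕ} (he : e < 324) (hf : f < 324) (h : D f = D e) : f = e := by
  have h1 := allR_spec 9 0 inj_ok e (Nat.zero_le _) (by omega)
  unfold injEntry at h1
  rw [show Nat.blt e 324 = true by simpa using he] at h1
  simp only [cond_true, force_eq, List.all_eq_true, List.mem_range, Bool.or_eq_true,
    Bool.not_eq_true', beq_true_iff] at h1
  rcases h1 f hf with h2 | h2
  · rw [← Bool.not_eq_true, beq_true_iff] at h2
    exact absurd h h2
  · exact h2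

theorem part_mem {c p : ℕ} (hc : c < 9) (hp : p < 31671) (h : bit (part c) p = true) :
    ∃ e, e < 324 ∧ cOf e = c ∧ D e = p := by
  have h1 := allR_spec 15 0 part_ok p (Nat.zero_le _) (by omega)
  unfold partEntry at h1
  rw [show Nat.blt p 31671 = true by simpa using hp] at h1
  simp only [cond_true, Bool.and_eq_true, List.all_eq_true, List.mem_range] at h1
  have h2 := h1.2 c hc
  rw [h] at h2
  simp only [cond_true, List.any_eq_true, List.mem_range, beq_true_iff] at h2
  obtain ⟨a, ha, h2⟩ := h2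
  exact ⟨36 * c + a, by omega, by simp only [cOf]; omega, h2⟩

theorem all_mem {p : ℕ} (hp : p < 31671) (h : bit allB p = true) : ∃ e, e < 324 ∧ D e = p := by
  have h1 := allR_spec 15 0 part_ok p (Nat.zero_le _) (by omega)
  unfold partEntry at h1
  rw [show Nat.blt p 31671 = true by simpa using hp] at h1
  simp only [cond_true, Bool.and_eq_true] at h1
  rw [h] at h1
  have h2 := h1.1
  rw [beq_iff_eq] at h2
  obtain ⟨c, hc, h3⟩ := List.any_eq_true.1 h2.symm
  obtain ⟨e, he, -, h4⟩ := part_mem (List.mem_range.1 hc) hp h3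
  exact ⟨e, he, h4⟩

theorem pair_spec {e f : ℕ} (he : e < 324) (hf : f < 324) :
    com (D e) (D f) = comEq e f ∧ bit (part (opI (cOf e) (cOf f))) (mv (D e) (D f)) = true ∧
      (cOf e = cOf f → kOf e = kOf f →
        mv (D e) (D f) = D (lab (cOf e) (kOf e) (opI (iOf e) (iOf f)))) := by
  have hx : e % 36 * 324 + f < 11664 := by omega
  have key : pairEntry (cOf e) (e % 36 * 324 + f) = true := by
    have hc := cOf_lt he
    have hq : (e % 36 * 324 + f) / 4096 < 3 := by omega
    generalize hx' : e % 36 * 324 + f = x at hx hq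
    have h1 : x / 4096 * 4096 ≤ x := Nat.div_mul_le_self x 4096
    have h2 : x < x / 4096 * 4096 + 2 ^ 12 := by omega
    generalize cOf e = c at hc
    generalize x / 4096 = q at hq h1 h2
    interval_cases c <;> interval_cases q
    all_goals first
      | exact allR_spec 12 0 pair_ok0_0 x h1 h2 | exact allR_spec 12 4096 pair_ok0_1 x h1 h2
      | exact allR_spec 12 8192 pair_ok0_2 x h1 h2 | exact allR_spec 12 0 pair_ok1_0 x h1 h2
      | exact allR_spec 12 4096 pair_ok1_1 x h1 h2 | exact allR_spec 12 8192 pair_ok1_2 x h1 h2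
      | exact allR_spec 12 0 pair_ok2_0 x h1 h2 | exact allR_spec 12 4096 pair_ok2_1 x h1 h2
      | exact allR_spec 12 8192 pair_ok2_2 x h1 h2 | exact allR_spec 12 0 pair_ok3_0 x h1 h2
      | exact allR_spec 12 4096 pair_ok3_1 x h1 h2 | exact allR_spec 12 8192 pair_ok3_2 x h1 h2
      | exact allR_spec 12 0 pair_ok4_0 x h1 h2 | exact allR_spec 12 4096 pair_ok4_1 x h1 h2
      | exact allR_spec 12 8192 pair_ok4_2 x h1 h2 | exact allR_spec 12 0 pair_ok5_0 x h1 h2
      | exact allR_spec 12 4096 pair_ok5_1 x h1 h2 | exact allR_spec 12 8192 pair_ok5_2 x h1 h2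
      | exact allR_spec 12 0 pair_ok6_0 x h1 h2 | exact allR_spec 12 4096 pair_ok6_1 x h1 h2
      | exact allR_spec 12 8192 pair_ok6_2 x h1 h2 | exact allR_spec 12 0 pair_ok7_0 x h1 h2
      | exact allR_spec 12 4096 pair_ok7_1 x h1 h2 | exact allR_spec 12 8192 pair_ok7_2 x h1 h2
      | exact allR_spec 12 0 pair_ok8_0 x h1 h2 | exact allR_spec 12 4096 pair_ok8_1 x h1 h2
      | exact allR_spec 12 8192 pair_ok8_2 x h1 h2
  unfold pairEntry at key
  rw [show Nat.blt (e % 36 * 324 + f) 11664 = true by simpa using hx] at key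
  have h1 : (e % 36 * 324 + f) / 324 = e % 36 := by omega
  have h2 : (e % 36 * 324 + f) % 324 = f := by omega
  have h3 : 36 * cOf e + e % 36 = e := by simp only [cOf]; omega
  rw [cond_true, h1, h2, h3] at key
  simp only [pairOK, force_eq, Bool.and_eq_true, beq_iff_eq] at key
  refine ⟨key.1.1, key.1.2, fun hc hk => ?_⟩
  have h4 := key.2
  rw [show (Nat.beq (cOf e) (cOf f) && Nat.beq (kOf e) (kOf f)) = true by
    simp [hc, hk]] at h4
  simpa [beq_true_iff] using h4

/-- A compatible injective map of nine symbols has order dividing 24. -/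
theorem aff_periodic {g : ℕ → ℕ} (hlt : ∀ i, i < 9 → g i < 9)
    (hinj : ∀ i j, i < 9 → j < 9 → g i = g j → i = j)
    (hop : ∀ i j, i < 9 → j < 9 → g (opI i j) = opI (g i) (g j)) {i : ℕ} (hi : i < 9) :
    g^[24] i = i := by
  have hx : g 0 * 81 + g 3 * 9 + g 1 < 729 := by
    have := hlt 0 (by norm_num); have := hlt 3 (by norm_num); have := hlt 1 (by norm_num); omega
  have h := allR_spec 10 0 aff_ok _ (Nat.zero_le _) (show g 0 * 81 + g 3 * 9 + g 1 < 0 + 2 ^ 10 by omega)
  unfold affOK at h
  rw [show Nat.blt (g 0 * 81 + g 3 * 9 + g 1) 729 = true by simpa using hx, cond_true] at h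
  have h81 : (g 0 * 81 + g 3 * 9 + g 1) / 81 = g 0 := by
    have := hlt 3 (by norm_num); have := hlt 1 (by norm_num); omega
  have h9 : (g 0 * 81 + g 3 * 9 + g 1) / 9 % 9 = g 3 := by
    have := hlt 3 (by norm_num); have := hlt 1 (by norm_num); omega
  have h1 : (g 0 * 81 + g 3 * 9 + g 1) % 9 = g 1 := by
    have := hlt 1 (by norm_num); omega
  rw [h81, h9, h1] at h
  have e2 : g 2 = opI (g 0) (g 1) := hop 0 1 (by norm_num) (by norm_num)
  have e6 : g 6 = opI (g 0) (g 3) := hop 0 3 (by norm_num) (by norm_num)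
  have e8 : g 8 = opI (g 3) (g 1) := hop 3 1 (by norm_num) (by norm_num)
  have e4 : g 4 = opI (g 8) (g 0) := hop 8 0 (by norm_num) (by norm_num)
  have e5 : g 5 = opI (g 6) (g 1) := hop 6 1 (by norm_num) (by norm_num)
  have e7 : g 7 = opI (g 3) (g 2) := hop 3 2 (by norm_num) (by norm_num)
  have hm : ∀ j, j < 9 → affMap (g 0) (g 3) (g 1) j = g j := by
    intro j hj
    interval_cases j <;> simp [affMap, affList, e2, e6, e8, e4, e5, e7]
    all_goals simp only [opI]
    all_goals omega
  simp only [Bool.cond_eq_ite] at h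
  rw [if_pos (by
    simp only [List.all_eq_true, List.mem_range, Bool.and_eq_true, Bool.or_eq_true,
      Bool.not_eq_true', beq_true_iff]
    intro a ha b hb
    rw [hm a ha, hm b hb, hm _ (opI_lt a b)]
    refine ⟨hop a b ha hb, ?_⟩
    by_cases hab : g a = g b
    · exact Or.inr (hinj a b ha hb hab)
    · exact Or.inl (by rwa [← Bool.not_eq_true, beq_true_iff]))] at h
  simp only [List.all_eq_true, List.mem_range, beq_true_iff] at h
  have h2 := h i hi
  have hit : ∀ n, (List.range n).foldl
      (fun y _ => force (affMap (g 0) (g 3) (g 1) y) fun r => r) i = g^[n] i ∧ g^[n] i < 9 := by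
    intro n
    induction n with
    | zero => exact ⟨rfl, hi⟩
    | succ n ih =>
      rw [List.range_succ, List.foldl_append, ih.1, List.foldl_cons, List.foldl_nil, force_eq,
        hm _ ih.2, Function.iterate_succ_apply']
      exact ⟨rfl, hlt _ ih.2⟩
  rw [← (hit 24).1]
  exact h2

end

end CfsgLib.Fi23Max
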