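import Cfsg.Agent.Fi23Max.Defs

/-! The witnesses for the derived length. -/

set_option autoImplicit false
set_option maxRecDepth 100000
set_option Elab.async false

namespace CfsgLib.Fi23Max

open CfsgLib.CosetEnum

noncomputable section

theorem base_ok : baseOK = true := by decide +kernel

theorem level_ok1 : levelOK tabs0 wit1 = true := by decide +kernel

theorem level_ok2 : levelOK (tabsOf wit1) wit2 = true := by decide +kernel

theorem level_ok3 : levelOK (tabsOf wit2) wit3 = true := by decide +kernel

theorem level_ok4 : levelOK (tabsOf wit3) wit4 = true := by decide +kernel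

theorem level_ok5 : levelOK (tabsOf wit4) wit5 = true := by decide +kernel

theorem level_ok6 : levelOK (tabsOf wit5) wit6 = true := by decide +kernel

theorem level_ok7 : levelOK (tabsOf wit6) wit7 = true := by decide +kernel

theorem level_ok8 : levelOK (tabsOf wit7) wit8 = true := by decide +kernel

theorem topA_lt : (wordLt topA && wordLt topB) = true := by decide +kernel

theorem top_idx : (topI ++ topJ).all (fun t => Nat.blt t (tabsOf wit8).length) = true := by decide +kernel

theorem topA_ok_0 : allR (topEntry topI topA) 6 0 = true := by decide +kernel

theorem topA_ok_1 : allR (topEntry topI topA) 6 64 = true := by decide +kernel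

theorem topA_ok_2 : allR (topEntry topI topA) 6 128 = true := by decide +kernel

theorem topA_ok_3 : allR (topEntry topI topA) 6 192 = true := by decide +kernel

theorem topA_ok_4 : allR (topEntry topI topA) 6 256 = true := by decide +kernel

theorem topA_ok_5 : allR (topEntry topI topA) 6 320 = true := by decide +kernel

theorem topA_ok_6 : allR (topEntry topI topA) 6 384 = true := by decide +kernel

theorem topA_ok_7 : allR (topEntry topI topA) 6 448 = true := by decide +kernel

theorem topA_ok : allR (topEntry topI topA) 9 0 = true :=
  (allR_join (d := 8) (lo := 0) (hi := 256) (allR_join (d := 7) (lo := 0) (hi := 128) (allR_join (d := 6) (lo := 0) (hi := 64) topA_ok_0 (by decide +kernel) topA_ok_1) (by decide +kernel) (allR_join (d := 6) (lo := 128) (hi := 192) topA_ok_2 (by decide +kernel) topA_ok_3)) (by decide +kernel) (allR_join (d := 7) (lo := 256) (hi := 384) (allR_join (d := 6) (lo := 256) (hi := 320) topA_ok_4 (by decide +kernel) topA_ok_5) (by decide +kernel) (allR_join (d := 6) (lo := 384) (hi := 448) topA_ok_6 (by decide +kernel) topA_ok_7)))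

theorem topB_ok_0 : allR (topEntry topJ topB) 6 0 = true := by decide +kernel

theorem topB_ok_1 : allR (topEntry topJ topB) 6 64 = true := by decide +kernel

theorem topB_ok_2 : allR (topEntry topJ topB) 6 128 = true := by decide +kernel

theorem topB_ok_3 : allR (topEntry topJ topB) 6 192 = true := by decide +kernel

theorem topB_ok_4 : allR (topEntry topJ topB) 6 256 = true := by decide +kernel

theorem topB_ok_5 : allR (topEntry topJ topB) 6 320 = true := by decide +kernel

theorem topB_ok_6 : allR (topEntry topJ topB) 6 384 = true := by decide +kernel

theorem topB_ok_7 : allR (topEntry topJ topB) 6 448 = true := by decide +kernel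

theorem topB_ok : allR (topEntry topJ topB) 9 0 = true :=
  (allR_join (d := 8) (lo := 0) (hi := 256) (allR_join (d := 7) (lo := 0) (hi := 128) (allR_join (d := 6) (lo := 0) (hi := 64) topB_ok_0 (by decide +kernel) topB_ok_1) (by decide +kernel) (allR_join (d := 6) (lo := 128) (hi := 192) topB_ok_2 (by decide +kernel) topB_ok_3)) (by decide +kernel) (allR_join (d := 7) (lo := 256) (hi := 384) (allR_join (d := 6) (lo := 256) (hi := 320) topB_ok_4 (by decide +kernel) topB_ok_5) (by decide +kernel) (allR_join (d := 6) (lo := 384) (hi := 448) topB_ok_6 (by decide +kernel) topB_ok_7)))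

theorem top_ne : (gpt.any fun g => !(Nat.beq (app (commWord topA topB) g) g)) = true := by decide +kernel

end

end CfsgLib.Fi23Max
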