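import Cfsg.Agent.Fi23Max.Defs

/-! The words on the 324 points. -/

set_option autoImplicit false
set_option maxRecDepth 100000
set_option Elab.async false

namespace CfsgLib.Fi23Max

open CfsgLib.CosetEnum

noncomputable section

theorem moves_lt : (moves.all wordLt) = true := by decide +kernel

theorem move_ok0_0 : allR (moveEntry 0) 8 0 = true := by decide +kernel

theorem move_ok0_1 : allR (moveEntry 0) 8 256 = true := by decide +kernel

theorem move_ok0 : allR (moveEntry 0) 9 0 = true :=
  (allR_join (d := 8) (lo := 0) (hi := 256) move_ok0_0 (by decide +kernel) move_ok0_1)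

theorem move_ok1_0 : allR (moveEntry 1) 8 0 = true := by decide +kernel

theorem move_ok1_1 : allR (moveEntry 1) 8 256 = true := by decide +kernel

theorem move_ok1 : allR (moveEntry 1) 9 0 = true :=
  (allR_join (d := 8) (lo := 0) (hi := 256) move_ok1_0 (by decide +kernel) move_ok1_1)

theorem move_ok2_0 : allR (moveEntry 2) 8 0 = true := by decide +kernel

theorem move_ok2_1 : allR (moveEntry 2) 8 256 = true := by decide +kernel

theorem move_ok2 : allR (moveEntry 2) 9 0 = true :=
  (allR_join (d := 8) (lo := 0) (hi := 256) move_ok2_0 (by decide +kernel) move_ok2_1)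

theorem move_ok3_0 : allR (moveEntry 3) 8 0 = true := by decide +kernel

theorem move_ok3_1 : allR (moveEntry 3) 8 256 = true := by decide +kernel

theorem move_ok3 : allR (moveEntry 3) 9 0 = true :=
  (allR_join (d := 8) (lo := 0) (hi := 256) move_ok3_0 (by decide +kernel) move_ok3_1)

theorem move_ok4_0 : allR (moveEntry 4) 8 0 = true := by decide +kernel

theorem move_ok4_1 : allR (moveEntry 4) 8 256 = true := by decide +kernel

theorem move_ok4 : allR (moveEntry 4) 9 0 = true :=
  (allR_join (d := 8) (lo := 0) (hi := 256) move_ok4_0 (by decide +kernel) move_ok4_1)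

theorem move_ok5_0 : allR (moveEntry 5) 8 0 = true := by decide +kernel

theorem move_ok5_1 : allR (moveEntry 5) 8 256 = true := by decide +kernel

theorem move_ok5 : allR (moveEntry 5) 9 0 = true :=
  (allR_join (d := 8) (lo := 0) (hi := 256) move_ok5_0 (by decide +kernel) move_ok5_1)

theorem move_ok6_0 : allR (moveEntry 6) 8 0 = true := by decide +kernel

theorem move_ok6_1 : allR (moveEntry 6) 8 256 = true := by decide +kernel

theorem move_ok6 : allR (moveEntry 6) 9 0 = true :=
  (allR_join (d := 8) (lo := 0) (hi := 256) move_ok6_0 (by decide +kernel) move_ok6_1)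

theorem move_ok7_0 : allR (moveEntry 7) 8 0 = true := by decide +kernel

theorem move_ok7_1 : allR (moveEntry 7) 8 256 = true := by decide +kernel

theorem move_ok7 : allR (moveEntry 7) 9 0 = true :=
  (allR_join (d := 8) (lo := 0) (hi := 256) move_ok7_0 (by decide +kernel) move_ok7_1)

theorem move_ok8_0 : allR (moveEntry 8) 8 0 = true := by decide +kernel

theorem move_ok8_1 : allR (moveEntry 8) 8 256 = true := by decide +kernel

theorem move_ok8 : allR (moveEntry 8) 9 0 = true :=
  (allR_join (d := 8) (lo := 0) (hi := 256) move_ok8_0 (by decide +kernel) move_ok8_1)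

theorem move_ok9_0 : allR (moveEntry 9) 8 0 = true := by decide +kernel

theorem move_ok9_1 : allR (moveEntry 9) 8 256 = true := by decide +kernel

theorem move_ok9 : allR (moveEntry 9) 9 0 = true :=
  (allR_join (d := 8) (lo := 0) (hi := 256) move_ok9_0 (by decide +kernel) move_ok9_1)

theorem move_ok10_0 : allR (moveEntry 10) 8 0 = true := by decide +kernel

theorem move_ok10_1 : allR (moveEntry 10) 8 256 = true := by decide +kernel

theorem move_ok10 : allR (moveEntry 10) 9 0 = true :=
  (allR_join (d := 8) (lo := 0) (hi := 256) move_ok10_0 (by decide +kernel) move_ok10_1)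

theorem move_ok11_0 : allR (moveEntry 11) 8 0 = true := by decide +kernel

theorem move_ok11_1 : allR (moveEntry 11) 8 256 = true := by decide +kernel

theorem move_ok11 : allR (moveEntry 11) 9 0 = true :=
  (allR_join (d := 8) (lo := 0) (hi := 256) move_ok11_0 (by decide +kernel) move_ok11_1)

theorem move_ok12_0 : allR (moveEntry 12) 8 0 = true := by decide +kernel

theorem move_ok12_1 : allR (moveEntry 12) 8 256 = true := by decide +kernel

theorem move_ok12 : allR (moveEntry 12) 9 0 = true :=
  (allR_join (d := 8) (lo := 0) (hi := 256) move_ok12_0 (by decide +kernel) move_ok12_1)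

theorem move_ok13_0 : allR (moveEntry 13) 8 0 = true := by decide +kernel

theorem move_ok13_1 : allR (moveEntry 13) 8 256 = true := by decide +kernel

theorem move_ok13 : allR (moveEntry 13) 9 0 = true :=
  (allR_join (d := 8) (lo := 0) (hi := 256) move_ok13_0 (by decide +kernel) move_ok13_1)

theorem move_ok14_0 : allR (moveEntry 14) 7 0 = true := by decide +kernel

theorem move_ok14_1 : allR (moveEntry 14) 7 128 = true := by decide +kernel

theorem move_ok14_2 : allR (moveEntry 14) 7 256 = true := by decide +kernel

theorem move_ok14_3 : allR (moveEntry 14) 7 384 = true := by decide +kernel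

theorem move_ok14 : allR (moveEntry 14) 9 0 = true :=
  (allR_join (d := 8) (lo := 0) (hi := 256) (allR_join (d := 7) (lo := 0) (hi := 128) move_ok14_0 (by decide +kernel) move_ok14_1) (by decide +kernel) (allR_join (d := 7) (lo := 256) (hi := 384) move_ok14_2 (by decide +kernel) move_ok14_3))

theorem move_ok15_0 : allR (moveEntry 15) 7 0 = true := by decide +kernel

theorem move_ok15_1 : allR (moveEntry 15) 7 128 = true := by decide +kernel

theorem move_ok15_2 : allR (moveEntry 15) 7 256 = true := by decide +kernel

theorem move_ok15_3 : allR (moveEntry 15) 7 384 = true := by decide +kernel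

theorem move_ok15 : allR (moveEntry 15) 9 0 = true :=
  (allR_join (d := 8) (lo := 0) (hi := 256) (allR_join (d := 7) (lo := 0) (hi := 128) move_ok15_0 (by decide +kernel) move_ok15_1) (by decide +kernel) (allR_join (d := 7) (lo := 256) (hi := 384) move_ok15_2 (by decide +kernel) move_ok15_3))

theorem move_ok16_0 : allR (moveEntry 16) 7 0 = true := by decide +kernel

theorem move_ok16_1 : allR (moveEntry 16) 7 128 = true := by decide +kernel

theorem move_ok16_2 : allR (moveEntry 16) 7 256 = true := by decide +kernel

theorem move_ok16_3 : allR (moveEntry 16) 7 384 = true := by decide +kernel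

theorem move_ok16 : allR (moveEntry 16) 9 0 = true :=
  (allR_join (d := 8) (lo := 0) (hi := 256) (allR_join (d := 7) (lo := 0) (hi := 128) move_ok16_0 (by decide +kernel) move_ok16_1) (by decide +kernel) (allR_join (d := 7) (lo := 256) (hi := 384) move_ok16_2 (by decide +kernel) move_ok16_3))

end

end CfsgLib.Fi23Max
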