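import Cfsg.Agent.Fi23Max.Defs

/-! Products among the 324 points. -/

set_option autoImplicit false
set_option maxRecDepth 100000
set_option Elab.async false

namespace CfsgLib.Fi23Max

open CfsgLib.CosetEnum

noncomputable section

theorem pairP3_0 : allR (pairEntry 3) 10 0 = true := by decide +kernel

theorem pairP3_1 : allR (pairEntry 3) 10 1024 = true := by decide +kernel

theorem pairP3_2 : allR (pairEntry 3) 10 2048 = true := by decide +kernel

theorem pairP3_3 : allR (pairEntry 3) 10 3072 = true := by decide +kernel

theorem pair_ok3_0 : allR (pairEntry 3) 12 0 = true :=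
  (allR_join (d := 11) (lo := 0) (hi := 2048) (allR_join (d := 10) (lo := 0) (hi := 1024) pairP3_0 (by decide +kernel) pairP3_1) (by decide +kernel) (allR_join (d := 10) (lo := 2048) (hi := 3072) pairP3_2 (by decide +kernel) pairP3_3))

theorem pairP3_4 : allR (pairEntry 3) 10 4096 = true := by decide +kernel

theorem pairP3_5 : allR (pairEntry 3) 10 5120 = true := by decide +kernel

theorem pairP3_6 : allR (pairEntry 3) 10 6144 = true := by decide +kernel

theorem pairP3_7 : allR (pairEntry 3) 10 7168 = true := by decide +kernel

theorem pair_ok3_1 : allR (pairEntry 3) 12 4096 = true :=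
  (allR_join (d := 11) (lo := 4096) (hi := 6144) (allR_join (d := 10) (lo := 4096) (hi := 5120) pairP3_4 (by decide +kernel) pairP3_5) (by decide +kernel) (allR_join (d := 10) (lo := 6144) (hi := 7168) pairP3_6 (by decide +kernel) pairP3_7))

theorem pairP3_8 : allR (pairEntry 3) 10 8192 = true := by decide +kernel

theorem pairP3_9 : allR (pairEntry 3) 10 9216 = true := by decide +kernel

theorem pairP3_10 : allR (pairEntry 3) 10 10240 = true := by decide +kernel

theorem pairP3_11 : allR (pairEntry 3) 10 11264 = true := by decide +kernel

theorem pair_ok3_2 : allR (pairEntry 3) 12 8192 = true :=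
  (allR_join (d := 11) (lo := 8192) (hi := 10240) (allR_join (d := 10) (lo := 8192) (hi := 9216) pairP3_8 (by decide +kernel) pairP3_9) (by decide +kernel) (allR_join (d := 10) (lo := 10240) (hi := 11264) pairP3_10 (by decide +kernel) pairP3_11))

theorem pairP4_0 : allR (pairEntry 4) 10 0 = true := by decide +kernel

theorem pairP4_1 : allR (pairEntry 4) 10 1024 = true := by decide +kernel

theorem pairP4_2 : allR (pairEntry 4) 10 2048 = true := by decide +kernel

theorem pairP4_3 : allR (pairEntry 4) 10 3072 = true := by decide +kernel

theorem pair_ok4_0 : allR (pairEntry 4) 12 0 = true :=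
  (allR_join (d := 11) (lo := 0) (hi := 2048) (allR_join (d := 10) (lo := 0) (hi := 1024) pairP4_0 (by decide +kernel) pairP4_1) (by decide +kernel) (allR_join (d := 10) (lo := 2048) (hi := 3072) pairP4_2 (by decide +kernel) pairP4_3))

theorem pairP4_4 : allR (pairEntry 4) 10 4096 = true := by decide +kernel

theorem pairP4_5 : allR (pairEntry 4) 10 5120 = true := by decide +kernel

theorem pairP4_6 : allR (pairEntry 4) 10 6144 = true := by decide +kernel

theorem pairP4_7 : allR (pairEntry 4) 10 7168 = true := by decide +kernel

theorem pair_ok4_1 : allR (pairEntry 4) 12 4096 = true :=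
  (allR_join (d := 11) (lo := 4096) (hi := 6144) (allR_join (d := 10) (lo := 4096) (hi := 5120) pairP4_4 (by decide +kernel) pairP4_5) (by decide +kernel) (allR_join (d := 10) (lo := 6144) (hi := 7168) pairP4_6 (by decide +kernel) pairP4_7))

theorem pairP4_8 : allR (pairEntry 4) 10 8192 = true := by decide +kernel

theorem pairP4_9 : allR (pairEntry 4) 10 9216 = true := by decide +kernel

theorem pairP4_10 : allR (pairEntry 4) 10 10240 = true := by decide +kernel

theorem pairP4_11 : allR (pairEntry 4) 10 11264 = true := by decide +kernel

theorem pair_ok4_2 : allR (pairEntry 4) 12 8192 = true :=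
  (allR_join (d := 11) (lo := 8192) (hi := 10240) (allR_join (d := 10) (lo := 8192) (hi := 9216) pairP4_8 (by decide +kernel) pairP4_9) (by decide +kernel) (allR_join (d := 10) (lo := 10240) (hi := 11264) pairP4_10 (by decide +kernel) pairP4_11))

theorem pairP5_0 : allR (pairEntry 5) 10 0 = true := by decide +kernel

theorem pairP5_1 : allR (pairEntry 5) 10 1024 = true := by decide +kernel

theorem pairP5_2 : allR (pairEntry 5) 10 2048 = true := by decide +kernel

theorem pairP5_3 : allR (pairEntry 5) 10 3072 = true := by decide +kernel

theorem pair_ok5_0 : allR (pairEntry 5) 12 0 = true :=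
  (allR_join (d := 11) (lo := 0) (hi := 2048) (allR_join (d := 10) (lo := 0) (hi := 1024) pairP5_0 (by decide +kernel) pairP5_1) (by decide +kernel) (allR_join (d := 10) (lo := 2048) (hi := 3072) pairP5_2 (by decide +kernel) pairP5_3))

theorem pairP5_4 : allR (pairEntry 5) 10 4096 = true := by decide +kernel

theorem pairP5_5 : allR (pairEntry 5) 10 5120 = true := by decide +kernel

theorem pairP5_6 : allR (pairEntry 5) 10 6144 = true := by decide +kernel

theorem pairP5_7 : allR (pairEntry 5) 10 7168 = true := by decide +kernel

theorem pair_ok5_1 : allR (pairEntry 5) 12 4096 = true :=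
  (allR_join (d := 11) (lo := 4096) (hi := 6144) (allR_join (d := 10) (lo := 4096) (hi := 5120) pairP5_4 (by decide +kernel) pairP5_5) (by decide +kernel) (allR_join (d := 10) (lo := 6144) (hi := 7168) pairP5_6 (by decide +kernel) pairP5_7))

theorem pairP5_8 : allR (pairEntry 5) 10 8192 = true := by decide +kernel

theorem pairP5_9 : allR (pairEntry 5) 10 9216 = true := by decide +kernel

theorem pairP5_10 : allR (pairEntry 5) 10 10240 = true := by decide +kernel

theorem pairP5_11 : allR (pairEntry 5) 10 11264 = true := by decide +kernel

theorem pair_ok5_2 : allR (pairEntry 5) 12 8192 = true :=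
  (allR_join (d := 11) (lo := 8192) (hi := 10240) (allR_join (d := 10) (lo := 8192) (hi := 9216) pairP5_8 (by decide +kernel) pairP5_9) (by decide +kernel) (allR_join (d := 10) (lo := 10240) (hi := 11264) pairP5_10 (by decide +kernel) pairP5_11))

end

end CfsgLib.Fi23Max
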