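import Cfsg.Agent.Fi23Max.Defs

/-! Products among the 324 points. -/

set_option autoImplicit false
set_option maxRecDepth 100000
set_option Elab.async false

namespace CfsgLib.Fi23Max

open CfsgLib.CosetEnum

noncomputable section

theorem pairP6_0 : allR (pairEntry 6) 10 0 = true := by decide +kernel

theorem pairP6_1 : allR (pairEntry 6) 10 1024 = true := by decide +kernel

theorem pairP6_2 : allR (pairEntry 6) 10 2048 = true := by decide +kernel

theorem pairP6_3 : allR (pairEntry 6) 10 3072 = true := by decide +kernel

theorem pair_ok6_0 : allR (pairEntry 6) 12 0 = true :=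
  (allR_join (d := 11) (lo := 0) (hi := 2048) (allR_join (d := 10) (lo := 0) (hi := 1024) pairP6_0 (by decide +kernel) pairP6_1) (by decide +kernel) (allR_join (d := 10) (lo := 2048) (hi := 3072) pairP6_2 (by decide +kernel) pairP6_3))

theorem pairP6_4 : allR (pairEntry 6) 10 4096 = true := by decide +kernel

theorem pairP6_5 : allR (pairEntry 6) 10 5120 = true := by decide +kernel

theorem pairP6_6 : allR (pairEntry 6) 10 6144 = true := by decide +kernel

theorem pairP6_7 : allR (pairEntry 6) 10 7168 = true := by decide +kernel

theorem pair_ok6_1 : allR (pairEntry 6) 12 4096 = true :=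
  (allR_join (d := 11) (lo := 4096) (hi := 6144) (allR_join (d := 10) (lo := 4096) (hi := 5120) pairP6_4 (by decide +kernel) pairP6_5) (by decide +kernel) (allR_join (d := 10) (lo := 6144) (hi := 7168) pairP6_6 (by decide +kernel) pairP6_7))

theorem pairP6_8 : allR (pairEntry 6) 10 8192 = true := by decide +kernel

theorem pairP6_9 : allR (pairEntry 6) 10 9216 = true := by decide +kernel

theorem pairP6_10 : allR (pairEntry 6) 10 10240 = true := by decide +kernel

theorem pairP6_11 : allR (pairEntry 6) 10 11264 = true := by decide +kernel

theorem pair_ok6_2 : allR (pairEntry 6) 12 8192 = true :=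
  (allR_join (d := 11) (lo := 8192) (hi := 10240) (allR_join (d := 10) (lo := 8192) (hi := 9216) pairP6_8 (by decide +kernel) pairP6_9) (by decide +kernel) (allR_join (d := 10) (lo := 10240) (hi := 11264) pairP6_10 (by decide +kernel) pairP6_11))

theorem pairP7_0 : allR (pairEntry 7) 10 0 = true := by decide +kernel

theorem pairP7_1 : allR (pairEntry 7) 10 1024 = true := by decide +kernel

theorem pairP7_2 : allR (pairEntry 7) 10 2048 = true := by decide +kernel

theorem pairP7_3 : allR (pairEntry 7) 10 3072 = true := by decide +kernel

theorem pair_ok7_0 : allR (pairEntry 7) 12 0 = true :=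
  (allR_join (d := 11) (lo := 0) (hi := 2048) (allR_join (d := 10) (lo := 0) (hi := 1024) pairP7_0 (by decide +kernel) pairP7_1) (by decide +kernel) (allR_join (d := 10) (lo := 2048) (hi := 3072) pairP7_2 (by decide +kernel) pairP7_3))

theorem pairP7_4 : allR (pairEntry 7) 10 4096 = true := by decide +kernel

theorem pairP7_5 : allR (pairEntry 7) 10 5120 = true := by decide +kernel

theorem pairP7_6 : allR (pairEntry 7) 10 6144 = true := by decide +kernel

theorem pairP7_7 : allR (pairEntry 7) 10 7168 = true := by decide +kernel

theorem pair_ok7_1 : allR (pairEntry 7) 12 4096 = true :=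
  (allR_join (d := 11) (lo := 4096) (hi := 6144) (allR_join (d := 10) (lo := 4096) (hi := 5120) pairP7_4 (by decide +kernel) pairP7_5) (by decide +kernel) (allR_join (d := 10) (lo := 6144) (hi := 7168) pairP7_6 (by decide +kernel) pairP7_7))

theorem pairP7_8 : allR (pairEntry 7) 10 8192 = true := by decide +kernel

theorem pairP7_9 : allR (pairEntry 7) 10 9216 = true := by decide +kernel

theorem pairP7_10 : allR (pairEntry 7) 10 10240 = true := by decide +kernel

theorem pairP7_11 : allR (pairEntry 7) 10 11264 = true := by decide +kernel

theorem pair_ok7_2 : allR (pairEntry 7) 12 8192 = true :=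
  (allR_join (d := 11) (lo := 8192) (hi := 10240) (allR_join (d := 10) (lo := 8192) (hi := 9216) pairP7_8 (by decide +kernel) pairP7_9) (by decide +kernel) (allR_join (d := 10) (lo := 10240) (hi := 11264) pairP7_10 (by decide +kernel) pairP7_11))

theorem pairP8_0 : allR (pairEntry 8) 10 0 = true := by decide +kernel

theorem pairP8_1 : allR (pairEntry 8) 10 1024 = true := by decide +kernel

theorem pairP8_2 : allR (pairEntry 8) 10 2048 = true := by decide +kernel

theorem pairP8_3 : allR (pairEntry 8) 10 3072 = true := by decide +kernel

theorem pair_ok8_0 : allR (pairEntry 8) 12 0 = true :=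
  (allR_join (d := 11) (lo := 0) (hi := 2048) (allR_join (d := 10) (lo := 0) (hi := 1024) pairP8_0 (by decide +kernel) pairP8_1) (by decide +kernel) (allR_join (d := 10) (lo := 2048) (hi := 3072) pairP8_2 (by decide +kernel) pairP8_3))

theorem pairP8_4 : allR (pairEntry 8) 10 4096 = true := by decide +kernel

theorem pairP8_5 : allR (pairEntry 8) 10 5120 = true := by decide +kernel

theorem pairP8_6 : allR (pairEntry 8) 10 6144 = true := by decide +kernel

theorem pairP8_7 : allR (pairEntry 8) 10 7168 = true := by decide +kernel

theorem pair_ok8_1 : allR (pairEntry 8) 12 4096 = true :=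
  (allR_join (d := 11) (lo := 4096) (hi := 6144) (allR_join (d := 10) (lo := 4096) (hi := 5120) pairP8_4 (by decide +kernel) pairP8_5) (by decide +kernel) (allR_join (d := 10) (lo := 6144) (hi := 7168) pairP8_6 (by decide +kernel) pairP8_7))

theorem pairP8_8 : allR (pairEntry 8) 10 8192 = true := by decide +kernel

theorem pairP8_9 : allR (pairEntry 8) 10 9216 = true := by decide +kernel

theorem pairP8_10 : allR (pairEntry 8) 10 10240 = true := by decide +kernel

theorem pairP8_11 : allR (pairEntry 8) 10 11264 = true := by decide +kernel

theorem pair_ok8_2 : allR (pairEntry 8) 12 8192 = true :=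
  (allR_join (d := 11) (lo := 8192) (hi := 10240) (allR_join (d := 10) (lo := 8192) (hi := 9216) pairP8_8 (by decide +kernel) pairP8_9) (by decide +kernel) (allR_join (d := 10) (lo := 10240) (hi := 11264) pairP8_10 (by decide +kernel) pairP8_11))

end

end CfsgLib.Fi23Max
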