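import Cfsg.Agent.Fi23Max.PairCheck0
import Cfsg.Agent.Fi23Max.PairCheck1
import Cfsg.Agent.Fi23Max.PairCheck2
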