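import Cfsg.Agent.Fi23Max.Defs

/-! Products among the 324 points. -/

set_option autoImplicit false
set_option maxRecDepth 100000
set_option Elab.async false

namespace CfsgLib.Fi23Max

open CfsgLib.CosetEnum

noncomputable section

theorem pairP0_0 : allR (pairEntry 0) 10 0 = true := by decide +kernel

theorem pairP0_1 : allR (pairEntry 0) 10 1024 = true := by decide +kernel

theorem pairP0_2 : allR (pairEntry 0) 10 2048 = true := by decide +kernel

theorem pairP0_3 : allR (pairEntry 0) 10 3072 = true := by decide +kernel

theorem pair_ok0_0 : allR (pairEntry 0) 12 0 = true :=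
  (allR_join (d := 11) (lo := 0) (hi := 2048) (allR_join (d := 10) (lo := 0) (hi := 1024) pairP0_0 (by decide +kernel) pairP0_1) (by decide +kernel) (allR_join (d := 10) (lo := 2048) (hi := 3072) pairP0_2 (by decide +kernel) pairP0_3))

theorem pairP0_4 : allR (pairEntry 0) 10 4096 = true := by decide +kernel

theorem pairP0_5 : allR (pairEntry 0) 10 5120 = true := by decide +kernel

theorem pairP0_6 : allR (pairEntry 0) 10 6144 = true := by decide +kernel

theorem pairP0_7 : allR (pairEntry 0) 10 7168 = true := by decide +kernel

theorem pair_ok0_1 : allR (pairEntry 0) 12 4096 = true :=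
  (allR_join (d := 11) (lo := 4096) (hi := 6144) (allR_join (d := 10) (lo := 4096) (hi := 5120) pairP0_4 (by decide +kernel) pairP0_5) (by decide +kernel) (allR_join (d := 10) (lo := 6144) (hi := 7168) pairP0_6 (by decide +kernel) pairP0_7))

theorem pairP0_8 : allR (pairEntry 0) 10 8192 = true := by decide +kernel

theorem pairP0_9 : allR (pairEntry 0) 10 9216 = true := by decide +kernel

theorem pairP0_10 : allR (pairEntry 0) 10 10240 = true := by decide +kernel

theorem pairP0_11 : allR (pairEntry 0) 10 11264 = true := by decide +kernel

theorem pair_ok0_2 : allR (pairEntry 0) 12 8192 = true :=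
  (allR_join (d := 11) (lo := 8192) (hi := 10240) (allR_join (d := 10) (lo := 8192) (hi := 9216) pairP0_8 (by decide +kernel) pairP0_9) (by decide +kernel) (allR_join (d := 10) (lo := 10240) (hi := 11264) pairP0_10 (by decide +kernel) pairP0_11))

theorem pairP1_0 : allR (pairEntry 1) 10 0 = true := by decide +kernel

theorem pairP1_1 : allR (pairEntry 1) 10 1024 = true := by decide +kernel

theorem pairP1_2 : allR (pairEntry 1) 10 2048 = true := by decide +kernel

theorem pairP1_3 : allR (pairEntry 1) 10 3072 = true := by decide +kernel

theorem pair_ok1_0 : allR (pairEntry 1) 12 0 = true :=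
  (allR_join (d := 11) (lo := 0) (hi := 2048) (allR_join (d := 10) (lo := 0) (hi := 1024) pairP1_0 (by decide +kernel) pairP1_1) (by decide +kernel) (allR_join (d := 10) (lo := 2048) (hi := 3072) pairP1_2 (by decide +kernel) pairP1_3))

theorem pairP1_4 : allR (pairEntry 1) 10 4096 = true := by decide +kernel

theorem pairP1_5 : allR (pairEntry 1) 10 5120 = true := by decide +kernel

theorem pairP1_6 : allR (pairEntry 1) 10 6144 = true := by decide +kernel

theorem pairP1_7 : allR (pairEntry 1) 10 7168 = true := by decide +kernel

theorem pair_ok1_1 : allR (pairEntry 1) 12 4096 = true :=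
  (allR_join (d := 11) (lo := 4096) (hi := 6144) (allR_join (d := 10) (lo := 4096) (hi := 5120) pairP1_4 (by decide +kernel) pairP1_5) (by decide +kernel) (allR_join (d := 10) (lo := 6144) (hi := 7168) pairP1_6 (by decide +kernel) pairP1_7))

theorem pairP1_8 : allR (pairEntry 1) 10 8192 = true := by decide +kernel

theorem pairP1_9 : allR (pairEntry 1) 10 9216 = true := by decide +kernel

theorem pairP1_10 : allR (pairEntry 1) 10 10240 = true := by decide +kernel

theorem pairP1_11 : allR (pairEntry 1) 10 11264 = true := by decide +kernel

theorem pair_ok1_2 : allR (pairEntry 1) 12 8192 = true :=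
  (allR_join (d := 11) (lo := 8192) (hi := 10240) (allR_join (d := 10) (lo := 8192) (hi := 9216) pairP1_8 (by decide +kernel) pairP1_9) (by decide +kernel) (allR_join (d := 10) (lo := 10240) (hi := 11264) pairP1_10 (by decide +kernel) pairP1_11))

theorem pairP2_0 : allR (pairEntry 2) 10 0 = true := by decide +kernel

theorem pairP2_1 : allR (pairEntry 2) 10 1024 = true := by decide +kernel

theorem pairP2_2 : allR (pairEntry 2) 10 2048 = true := by decide +kernel

theorem pairP2_3 : allR (pairEntry 2) 10 3072 = true := by decide +kernel

theorem pair_ok2_0 : allR (pairEntry 2) 12 0 = true :=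
  (allR_join (d := 11) (lo := 0) (hi := 2048) (allR_join (d := 10) (lo := 0) (hi := 1024) pairP2_0 (by decide +kernel) pairP2_1) (by decide +kernel) (allR_join (d := 10) (lo := 2048) (hi := 3072) pairP2_2 (by decide +kernel) pairP2_3))

theorem pairP2_4 : allR (pairEntry 2) 10 4096 = true := by decide +kernel

theorem pairP2_5 : allR (pairEntry 2) 10 5120 = true := by decide +kernel

theorem pairP2_6 : allR (pairEntry 2) 10 6144 = true := by decide +kernel

theorem pairP2_7 : allR (pairEntry 2) 10 7168 = true := by decide +kernel

theorem pair_ok2_1 : allR (pairEntry 2) 12 4096 = true :=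
  (allR_join (d := 11) (lo := 4096) (hi := 6144) (allR_join (d := 10) (lo := 4096) (hi := 5120) pairP2_4 (by decide +kernel) pairP2_5) (by decide +kernel) (allR_join (d := 10) (lo := 6144) (hi := 7168) pairP2_6 (by decide +kernel) pairP2_7))

theorem pairP2_8 : allR (pairEntry 2) 10 8192 = true := by decide +kernel

theorem pairP2_9 : allR (pairEntry 2) 10 9216 = true := by decide +kernel

theorem pairP2_10 : allR (pairEntry 2) 10 10240 = true := by decide +kernel

theorem pairP2_11 : allR (pairEntry 2) 10 11264 = true := by decide +kernel

theorem pair_ok2_2 : allR (pairEntry 2) 12 8192 = true :=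
  (allR_join (d := 11) (lo := 8192) (hi := 10240) (allR_join (d := 10) (lo := 8192) (hi := 9216) pairP2_8 (by decide +kernel) pairP2_9) (by decide +kernel) (allR_join (d := 10) (lo := 10240) (hi := 11264) pairP2_10 (by decide +kernel) pairP2_11))

end

end CfsgLib.Fi23Max
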