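import Cfsg.Agent.Fi23Max.Defs

/-! The points with the pattern of the point 3. -/

set_option autoImplicit false
set_option maxRecDepth 100000
set_option Elab.async false

namespace CfsgLib.Fi23Max

open CfsgLib.CosetEnum

noncomputable section

theorem probe_ok_0 : allR (probeEntry) 10 0 = true := by decide +kernel

theorem probe_ok_1 : allR (probeEntry) 10 1024 = true := by decide +kernel

theorem probe_ok_2 : allR (probeEntry) 10 2048 = true := by decide +kernel

theorem probe_ok_3 : allR (probeEntry) 10 3072 = true := by decide +kernel

theorem probe_ok_4 : allR (probeEntry) 10 4096 = true := by decide +kernel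

theorem probe_ok_5 : allR (probeEntry) 10 5120 = true := by decide +kernel

theorem probe_ok_6 : allR (probeEntry) 10 6144 = true := by decide +kernel

theorem probe_ok_7 : allR (probeEntry) 10 7168 = true := by decide +kernel

theorem probe_ok_8 : allR (probeEntry) 10 8192 = true := by decide +kernel

theorem probe_ok_9 : allR (probeEntry) 10 9216 = true := by decide +kernel

theorem probe_ok_10 : allR (probeEntry) 10 10240 = true := by decide +kernel

theorem probe_ok_11 : allR (probeEntry) 10 11264 = true := by decide +kernel

theorem probe_ok_12 : allR (probeEntry) 10 12288 = true := by decide +kernel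

theorem probe_ok_13 : allR (probeEntry) 10 13312 = true := by decide +kernel

theorem probe_ok_14 : allR (probeEntry) 10 14336 = true := by decide +kernel

theorem probe_ok_15 : allR (probeEntry) 10 15360 = true := by decide +kernel

theorem probe_ok_16 : allR (probeEntry) 10 16384 = true := by decide +kernel

theorem probe_ok_17 : allR (probeEntry) 10 17408 = true := by decide +kernel

theorem probe_ok_18 : allR (probeEntry) 10 18432 = true := by decide +kernel

theorem probe_ok_19 : allR (probeEntry) 10 19456 = true := by decide +kernel

theorem probe_ok_20 : allR (probeEntry) 10 20480 = true := by decide +kernel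

theorem probe_ok_21 : allR (probeEntry) 10 21504 = true := by decide +kernel

theorem probe_ok_22 : allR (probeEntry) 10 22528 = true := by decide +kernel

theorem probe_ok_23 : allR (probeEntry) 10 23552 = true := by decide +kernel

theorem probe_ok_24 : allR (probeEntry) 10 24576 = true := by decide +kernel

theorem probe_ok_25 : allR (probeEntry) 10 25600 = true := by decide +kernel

theorem probe_ok_26 : allR (probeEntry) 10 26624 = true := by decide +kernel

theorem probe_ok_27 : allR (probeEntry) 10 27648 = true := by decide +kernel

theorem probe_ok_28 : allR (probeEntry) 10 28672 = true := by decide +kernel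

theorem probe_ok_29 : allR (probeEntry) 10 29696 = true := by decide +kernel

theorem probe_ok_30 : allR (probeEntry) 10 30720 = true := by decide +kernel

theorem probe_ok_31 : allR (probeEntry) 10 31744 = true := by decide +kernel

theorem probe_ok : allR (probeEntry) 15 0 = true :=
  (allR_join (d := 14) (lo := 0) (hi := 16384) (allR_join (d := 13) (lo := 0) (hi := 8192) (allR_join (d := 12) (lo := 0) (hi := 4096) (allR_join (d := 11) (lo := 0) (hi := 2048) (allR_join (d := 10) (lo := 0) (hi := 1024) probe_ok_0 (by decide +kernel) probe_ok_1) (by decide +kernel) (allR_join (d := 10) (lo := 2048) (hi := 3072) probe_ok_2 (by decide +kernel) probe_ok_3)) (by decide +kernel) (allR_join (d := 11) (lo := 4096) (hi := 6144) (allR_join (d := 10) (lo := 4096) (hi := 5120) probe_ok_4 (by decide +kernel) probe_ok_5) (by decide +kernel) (allR_join (d := 10) (lo := 6144) (hi := 7168) probe_ok_6 (by decide +kernel) probe_ok_7))) (by decide +kernel) (allR_join (d := 12) (lo := 8192) (hi := 12288) (allR_join (d := 11) (lo := 8192) (hi := 10240) (allR_join (d := 10) (lo := 8192) (hi := 9216) probe_ok_8 (by decide +kernel) probe_ok_9) (by decide +kernel)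 (allR_join (d := 10) (lo := 10240) (hi := 11264) probe_ok_10 (by decide +kernel) probe_ok_11)) (by decide +kernel) (allR_join (d := 11) (lo := 12288) (hi := 14336) (allR_join (d := 10) (lo := 12288) (hi := 13312) probe_ok_12 (by decide +kernel) probe_ok_13) (by decide +kernel) (allR_join (d := 10) (lo := 14336) (hi := 15360) probe_ok_14 (by decide +kernel) probe_ok_15)))) (by decide +kernel) (allR_join (d := 13) (lo := 16384) (hi := 24576) (allR_join (d := 12) (lo := 16384) (hi := 20480) (allR_join (d := 11) (lo := 16384) (hi := 18432) (allR_join (d := 10) (lo := 16384) (hi := 17408) probe_ok_16 (by decide +kernel) probe_ok_17) (by decide +kernel) (allR_join (d := 10) (lo := 18432) (hi := 19456) probe_ok_18 (by decide +kernel) probe_ok_19)) (by decide +kernel) (allR_join (d := 11) (lo := 20480) (hi := 22528) (allR_join (d := 10) (lo := 20480) (hi := 21504) probe_ok_20 (by decide +kernel) probe_ok_21) (by decide +kernel) (allR_join (d := 10) (lo := 22528) (hi := 23552) probe_ok_22 (by decide +kernel) probe_ok_23))) (by decide +kernel) (allR_join (d := 12) (lo := 24576) (hi := 28672) (allR_join (d := 11) (lo := 24576) (hi := 26624) (allR_join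 (d := 10) (lo := 24576) (hi := 25600) probe_ok_24 (by decide +kernel) probe_ok_25) (by decide +kernel) (allR_join (d := 10) (lo := 26624) (hi := 27648) probe_ok_26 (by decide +kernel) probe_ok_27)) (by decide +kernel) (allR_join (d := 11) (lo := 28672) (hi := 30720) (allR_join (d := 10) (lo := 28672) (hi := 29696) probe_ok_28 (by decide +kernel) probe_ok_29) (by decide +kernel) (allR_join (d := 10) (lo := 30720) (hi := 31744) probe_ok_30 (by decide +kernel) probe_ok_31)))))

end

end CfsgLib.Fi23Max
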