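import Cfsg.Agent.Fi23Max.Sub
import Cfsg.Agent.Fi23Max.LevelCheck
import Cfsg.Agent.Fi23Max.ProbeCheck
import Cfsg.Agent.Characters.Burnside

/-!
The stabiliser of the 324 points is solvable, of derived length at least ten.
-/

set_option autoImplicit false
set_option maxRecDepth 100000
set_option exponentiation.threshold 700000
set_option linter.unusedSectionVars false

namespace CfsgLib.Fi23Max

open CfsgLib.CosetEnum
open scoped commutatorElement

noncomputable section

open Classical in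
/-- The label of a point among the 324. -/
def lbl (p : ℕ) : ℕ := if h : ∃ e, e < 324 ∧ D e = p then h.choose else 0

theorem lbl_spec {e : ℕ} (he : e < 324) : lbl (D e) = e := by
  have h : ∃ f, f < 324 ∧ D f = D e := ⟨e, he, rfl⟩
  rw [lbl, dif_pos h]
  exact D_inj he h.choose_spec.1 h.choose_spec.2

theorem lbl_mem {p : ℕ} (hp : p < 31671) (h : bit allB p = true) : lbl p < 324 ∧ D (lbl p) = p := by
  rw [lbl, dif_pos (all_mem hp h)]
  exact (all_mem hp h).choose_spec

theorem compAll_append : ∀ (A B : List ℕ) (e : ℕ), compAll (A ++ B) e = compAll A (compAll B e)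
  | [], _, _ => rfl
  | P :: A, B, e => by simp only [List.cons_append, compAll, force_eq, compAll_append A B]

theorem inv_prod_rev (g : ℕ → G) (I : List ℕ) :
    (I.reverse.map fun t => (g t)⁻¹).prod = ((I.map g).prod)⁻¹ := by
  induction I with
  | nil => simp
  | cons t I ih =>
    rw [List.reverse_cons, List.map_append, List.prod_append, ih, List.map_cons, List.prod_cons]
    simp

/-- The possible images of 3. -/
def cand3 : Finset (Fin N) := {pt 3, pt 5346, pt 22707}

namespace Act

variable (S : Act)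
include S

/-- The action on the labels. -/
def act (h : G) (e : ℕ) : ℕ := lbl (S.φ h (pt (D e)))

theorem act_spec {h : G} (hh : h ∈ S.stab) {e : ℕ} (he : e < 324) :
    S.act h e < 324 ∧ S.φ h (pt (D e)) = pt (D (S.act h e)) := by
  have hb : bit allB (S.φ h (pt (D e))) = true := by
    rw [hh, pt_val (D_lt he).1]
    exact (D_lt he).2.1
  obtain ⟨h1, h2⟩ := lbl_mem (lt_of_pt _) hb
  exact ⟨h1, by rw [act, h2, pt_coe]⟩

theorem act_com {h : G} (hh : h ∈ S.stab) {e f : ℕ} (he : e < 324) (hf : f < 324) :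
    comEq (S.act h e) (S.act h f) = comEq e f := by
  obtain ⟨ha, hpa'⟩ := S.act_spec hh he
  obtain ⟨hb, hpb⟩ := S.act_spec hh hf
  rw [← (pair_spec he hf).1, ← (pair_spec ha hb).1]
  have := S.com_map h (pt (D e)) (pt (D f))
  rwa [hpa', hpb, pt_val (D_lt ha).1, pt_val (D_lt hb).1, pt_val (D_lt he).1, pt_val (D_lt hf).1] at this

theorem act_mv {h : G} (hh : h ∈ S.stab) {e f a : ℕ} (he : e < 324) (hf : f < 324) (ha : a < 324)
    (hea : mv (D e) (D f) = D a) : mv (D (S.act h e)) (D (S.act h f)) = D (S.act h a) := by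
  obtain ⟨he', hpe⟩ := S.act_spec hh he
  obtain ⟨hf', hpf⟩ := S.act_spec hh hf
  obtain ⟨ha', hpa'⟩ := S.act_spec hh ha
  have h1 : S.φ (d (pt (D e))) (pt (D f)) = pt (D a) :=
    Fin.ext ((S.phi_d_pt (D_lt he).1 (D_lt hf).1).trans (hea.trans (pt_val (D_lt ha).1).symm))
  have h2 : d (pt (D (S.act h e))) = h * d (pt (D e)) * h⁻¹ := S.d_conj hpe
  have h3 : S.φ (d (pt (D (S.act h e)))) (pt (D (S.act h f))) = pt (D (S.act h a)) := by
    rw [h2, ← hpf, map_mul, map_mul, Equiv.Perm.mul_apply, Equiv.Perm.mul_apply, map_inv,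
      Equiv.Perm.inv_def, Equiv.symm_apply_apply, h1, hpa']
  rw [← S.phi_d_pt (D_lt he').1 (D_lt hf').1, h3, pt_val (D_lt ha').1]

/-- An element fixing the 324 points sends 3 to one of three points. -/
theorem apply_three {g : G} (hg : ∀ e, e < 324 → S.φ g (pt (D e)) = pt (D e)) :
    S.φ g (pt 3) ∈ cand3 := by
  have h1 := allR_spec 15 0 probe_ok (S.φ g (pt 3)) (Nat.zero_le _)
    (by have := lt_of_pt (S.φ g (pt 3)); omega)
  unfold probeEntry at h1
  rw [show (Nat.blt (S.φ g (pt 3) : ℕ) 31671 && probes.all fun e =>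
      com (D e) (S.φ g (pt 3)) == com (D e) 3) = true by
    simp only [Bool.and_eq_true, Nat.blt_eq, List.all_eq_true, beq_iff_eq]
    refine ⟨lt_of_pt _, fun e he => ?_⟩
    have he' : e < 324 := by simp [probes] at he; omega
    have h2 := S.com_map g (pt (D e)) (pt 3)
    rwa [hg e he', pt_val (D_lt he').1, pt_val (show (3 : ℕ) < 31671 by norm_num)] at h2,
    cond_true, List.any_eq_true] at h1
  obtain ⟨c, hc, hce⟩ := h1
  have hcv : (S.φ g (pt 3) : ℕ) = c := Nat.eq_of_beq_eq_true hce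
  have h2 : S.φ g (pt 3) = pt c := Fin.ext (hcv.trans (pt_val (hcv ▸ lt_of_pt _)).symm)
  rw [h2, cand3]
  simp only [List.mem_cons, List.not_mem_nil, or_false] at hc
  rcases hc with rfl | rfl | rfl <;> simp

/-- An element fixing the 324 points and 3 is trivial. -/
theorem eq_one_of_fix {g : G} (hg : ∀ e, e < 324 → S.φ g (pt (D e)) = pt (D e))
    (h3 : S.φ g (pt 3) = pt 3) : g = 1 := by
  refine S.eq_one_of_comm fun k hk => ?_
  have hQ := deriv_spec (Q := fun i => i < 31671 ∧ S.φ g (pt i) = pt i) ?_ ?_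
    ⟨by norm_num, h3⟩ (gpF_mem hk)
  · simpa [pt_coe] using hQ.2
  · intro a b ha hb
    have h1 := S.phi_d_pt ha.1 hb.1
    have hlt : mv a b < 31671 := h1 ▸ lt_of_pt _
    refine ⟨hlt, ?_⟩
    rw [show pt (mv a b) = S.φ (d (pt a)) (pt b) from Fin.ext ((pt_val hlt).trans h1.symm),
      ← Equiv.Perm.mul_apply, ← map_mul, ((S.commute_iff g (pt a)).2 ha.2).eq, map_mul,
      Equiv.Perm.mul_apply, hb.2]
  · intro i hi
    obtain ⟨a, ha, rfl⟩ := all_mem (allB_lt hi) hi
    exact ⟨allB_lt hi, hg a ha⟩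

/-- An element of prime order at least five in the stabiliser is trivial. -/
theorem eq_one_of_prime {h : G} (hh : h ∈ S.stab) {p : ℕ} (hp : p.Prime) (h5 : 5 ≤ p)
    (hpow : h ^ p = 1) : h = 1 := by
  set f := S.act h
  have hflt : ∀ e, e < 324 → f e < 324 := fun e he => (S.act_spec hh he).1
  have hiter : ∀ (n : ℕ) e, e < 324 → f^[n] e < 324 ∧ S.φ (h ^ n) (pt (D e)) = pt (D (f^[n] e)) := by
    intro n
    induction n with
    | zero => intro e he; exact ⟨he, by rw [pow_zero, map_one, Equiv.Perm.one_apply]; rfl⟩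
    | succ n ih =>
      intro e he
      rw [Function.iterate_succ_apply, pow_succ, map_mul, Equiv.Perm.mul_apply, (S.act_spec hh he).2]
      exact ih _ (hflt e he)
  have hper : ∀ e, e < 324 → f^[p] e = e := by
    intro e he
    obtain ⟨h1, h2⟩ := hiter p e he
    rw [hpow, map_one, Equiv.Perm.one_apply] at h2
    refine D_inj he h1 ?_
    have := congrArg Fin.val h2
    rw [pt_val (D_lt he).1, pt_val (D_lt h1).1] at this
    exact this.symm
  -- the parts
  have hpart : ∀ e g, e < 324 → g < 324 → cOf e = cOf g → cOf (f e) = cOf (f g) := by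
    intro e g he hg hc
    have key : ∀ a b, a < 324 → b < 324 → comEq a b = true → cOf (f a) = cOf (f b) := by
      intro a b ha hb hab
      have h1 := S.act_com hh ha hb
      rw [hab] at h1
      simp only [comEq, Bool.and_eq_true, beq_true_iff] at h1
      exact h1.1
    by_cases hk : kOf e = kOf g
    · have hk' : (kOf e + 1) % 4 < 4 := Nat.mod_lt _ (by norm_num)
      obtain ⟨p1, p2, p3⟩ := lab_parts (c := cOf e) hk' (iOf_lt e)
      have hl : lab (cOf e) ((kOf e + 1) % 4) (iOf e) < 324 := lab_lt (cOf_lt he) hk' (iOf_lt e)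
      have hne : ¬ kOf e = (kOf e + 1) % 4 := by have := kOf_lt e; omega
      rw [key e _ he hl (by simp [comEq, p1, p2, beq_true_iff, beq_false_iff, hne]),
        key g _ hg hl (by simp [comEq, p1, p2, beq_true_iff, beq_false_iff, ← hc, ← hk, hne])]
    · exact key e g he hg (by simp [comEq, hc, beq_true_iff, beq_false_iff, hk])
  let C : ℕ → ℕ := fun c => cOf (f (lab c 0 0))
  have hC : ∀ e, e < 324 → cOf (f e) = C (cOf e) := fun e he =>
    hpart e _ he (lab_lt (cOf_lt he) (by norm_num) (by norm_num))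
      (lab_parts (by norm_num) (by norm_num)).1.symm
  have hClt : ∀ c, c < 9 → C c < 9 := fun c hc =>
    cOf_lt (hflt _ (lab_lt hc (by norm_num) (by norm_num)))
  have hCit : ∀ (n : ℕ) e, e < 324 → cOf (f^[n] e) = C^[n] (cOf e) := by
    intro n
    induction n with
    | zero => intro e _; rfl
    | succ n ih =>
      intro e he
      rw [Function.iterate_succ_apply', Function.iterate_succ_apply', hC _ (hiter n e he).1, ih e he]
  have hCper : ∀ c, c < 9 → C^[p] c = c := by
    intro c hc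
    have hl : lab c 0 0 < 324 := lab_lt hc (by norm_num) (by norm_num)
    have h1 := hCit p _ hl
    rwa [hper _ hl, (lab_parts (c := c) (k := 0) (i := 0) (by norm_num) (by norm_num)).1, eq_comm] at h1
  have hinj_of : ∀ (g : ℕ → ℕ) (m : ℕ), (∀ i, i < m → g^[p] i = i) →
      ∀ i j, i < m → j < m → g i = g j → i = j := by
    intro g m hg i j hi hj hij
    obtain ⟨p', rfl⟩ : ∃ p', p = p' + 1 := ⟨p - 1, by omega⟩
    rw [← hg i hi, ← hg j hj, Function.iterate_succ_apply, Function.iterate_succ_apply, hij]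
  have hCop : ∀ i j, i < 9 → j < 9 → C (opI i j) = opI (C i) (C j) := by
    intro i j hi hj
    have hei : lab i 0 0 < 324 := lab_lt hi (by norm_num) (by norm_num)
    have hej : lab j 0 0 < 324 := lab_lt hj (by norm_num) (by norm_num)
    obtain ⟨hci, -, -⟩ := lab_parts (c := i) (k := 0) (i := 0) (by norm_num) (by norm_num)
    obtain ⟨hcj, -, -⟩ := lab_parts (c := j) (k := 0) (i := 0) (by norm_num) (by norm_num)
    obtain ⟨-, hb, -⟩ := pair_spec hei hej
    rw [hci, hcj] at hb
    have hlt : mv (D (lab i 0 0)) (D (lab j 0 0)) < 31671 :=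
      S.phi_d_pt (D_lt hei).1 (D_lt hej).1 ▸ lt_of_pt _
    obtain ⟨a, ha, hca, hDa⟩ := part_mem (opI_lt i j) hlt hb
    have h1 := S.act_mv hh hei hej ha hDa.symm
    obtain ⟨-, hb', -⟩ := pair_spec (hflt _ hei) (hflt _ hej)
    rw [h1] at hb'
    obtain ⟨a', ha', hca', hDa'⟩ := part_mem (opI_lt _ _) (D_lt (hflt _ ha)).1 hb'
    rw [D_inj (hflt _ ha) ha' hDa'] at hca'
    rw [← hca, ← hC a ha, hca']
  have hc5 : Nat.Coprime 24 p := by
    refine (hp.coprime_iff_not_dvd.2 fun hd => ?_).symm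
    have := Nat.le_of_dvd (by norm_num) hd
    interval_cases p <;> revert hp hd <;> norm_num
  have hCfix : ∀ c, c < 9 → C c = c := fun c hc =>
    fixed_of_periods (aff_periodic hClt (hinj_of C 9 hCper) hCop hc) (hCper c hc) hc5
  have hfc : ∀ e, e < 324 → cOf (f e) = cOf e := fun e he => (hC e he).trans (hCfix _ (cOf_lt he))
  -- the blocks
  have hblock : ∀ e g, e < 324 → g < 324 → cOf e = cOf g → kOf e = kOf g →
      kOf (f e) = kOf (f g) := by
    intro e g he hg hc hk
    by_cases hi : iOf e = iOf g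
    · rw [show e = g by rw [← lab_eta e, ← lab_eta g, hc, hk, hi]]
    · have h1 := S.act_com hh he hg
      have h2 : comEq e g = false := by
        rw [← Bool.not_eq_true]
        simp [comEq, beq_true_iff, hk, hi]
      rw [h2, ← Bool.not_eq_true] at h1
      by_contra hne
      refine h1 ?_
      show comEq (f e) (f g) = true
      simp [comEq, beq_true_iff, beq_false_iff, hfc e he, hfc g hg, hc, hne]
  have hfk : ∀ e, e < 324 → kOf (f e) = kOf e := by
    intro e he
    have hcit : ∀ n, cOf (f^[n] e) = cOf e := fun n => by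
      rw [hCit n e he]
      exact Function.iterate_fixed (hCfix _ (cOf_lt he)) n
    let B : ℕ → ℕ := fun k => kOf (f (lab (cOf e) k 0))
    have hB : ∀ g, g < 324 → cOf g = cOf e → kOf (f g) = B (kOf g) := fun g hg hcg => by
      obtain ⟨p1, p2, -⟩ := lab_parts (c := cOf e) (kOf_lt g) (show (0 : ℕ) < 9 by norm_num)
      exact hblock g _ hg (lab_lt (cOf_lt he) (kOf_lt g) (by norm_num)) (hcg.trans p1.symm) p2.symm
    have hBit : ∀ n, kOf (f^[n] e) = B^[n] (kOf e) := by
      intro n
      induction n with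
      | zero => rfl
      | succ n ih =>
        rw [Function.iterate_succ_apply', Function.iterate_succ_apply', hB _ (hiter n e he).1 (hcit n),
          ih]
    have hBfix : B (kOf e) = kOf e :=
      fixed_of_small hp (x := kOf e) (by rw [← hBit, hper e he]) (Finset.range 4)
        (fun j => by rw [← hBit]; exact Finset.mem_range.2 (kOf_lt _))
        (by rw [Finset.card_range]; omega)
    rw [hB e he rfl, hBfix]
  -- inside a block
  have hfix : ∀ e, e < 324 → f e = e := by
    intro e he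
    let A : ℕ → ℕ := fun i => iOf (f (lab (cOf e) (kOf e) i))
    have hl : ∀ i, i < 9 → lab (cOf e) (kOf e) i < 324 := fun i hi => lab_lt (cOf_lt he) (kOf_lt e) hi
    have hA : ∀ g, g < 324 → cOf g = cOf e → kOf g = kOf e →
        f g = lab (cOf e) (kOf e) (A (iOf g)) := by
      intro g hg hcg hkg
      have h1 : lab (cOf e) (kOf e) (iOf g) = g := by rw [← hcg, ← hkg, lab_eta]
      calc f g = lab (cOf (f g)) (kOf (f g)) (iOf (f g)) := (lab_eta _).symm
        _ = _ := by rw [hfc g hg, hfk g hg, hcg, hkg]; simp only [A, h1]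
    
    have hAop : ∀ i j, i < 9 → j < 9 → A (opI i j) = opI (A i) (A j) := by
      intro i j hi hj
      obtain ⟨c1, k1, i1⟩ := lab_parts (c := cOf e) (kOf_lt e) hi
      obtain ⟨c2, k2, i2⟩ := lab_parts (c := cOf e) (kOf_lt e) hj
      obtain ⟨-, -, h1⟩ := pair_spec (hl i hi) (hl j hj)
      have h2 := h1 (c1.trans c2.symm) (k1.trans k2.symm)
      rw [c1, k1, i1, i2] at h2
      have h3 := S.act_mv hh (hl i hi) (hl j hj) (hl _ (opI_lt i j)) h2
      obtain ⟨-, -, h4⟩ := pair_spec (hflt _ (hl i hi)) (hflt _ (hl j hj))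
      have h5 := h4 (by rw [hfc _ (hl i hi), hfc _ (hl j hj), c1, c2])
        (by rw [hfk _ (hl i hi), hfk _ (hl j hj), k1, k2])
      rw [h3] at h5
      have h6 := D_inj (lab_lt (cOf_lt (hflt _ (hl i hi))) (kOf_lt _) (opI_lt _ _))
        (hflt _ (hl _ (opI_lt i j))) h5
      show iOf (f (lab (cOf e) (kOf e) (opI i j))) = _
      rw [h6]
      exact (lab_parts (kOf_lt _) (opI_lt _ _)).2.2
    have hAit : ∀ (n i : ℕ), i < 9 →
        f^[n] (lab (cOf e) (kOf e) i) = lab (cOf e) (kOf e) (A^[n] i) ∧ A^[n] i < 9 := by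
      intro n
      induction n with
      | zero => intro i hi; exact ⟨rfl, hi⟩
      | succ n ih =>
        intro i hi
        obtain ⟨c1, k1, i1⟩ := lab_parts (c := cOf e) (kOf_lt e) (ih i hi).2
        rw [Function.iterate_succ_apply', Function.iterate_succ_apply', (ih i hi).1,
          hA _ (hl _ (ih i hi).2) c1 k1, i1]
        exact ⟨rfl, iOf_lt _⟩
    have hAper : ∀ i, i < 9 → A^[p] i = i := by
      intro i hi
      have h1 := congrArg iOf ((hAit p i hi).1.symm.trans (hper _ (hl i hi)))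
      rwa [(lab_parts (kOf_lt e) (hAit p i hi).2).2.2, (lab_parts (kOf_lt e) hi).2.2] at h1
    have h24 := aff_periodic (fun i _ => iOf_lt _) (hinj_of A 9 hAper) hAop (iOf_lt e)
    have h25 : A (iOf e) = iOf e := fixed_of_periods h24 (hAper _ (iOf_lt e)) hc5
    rw [hA e he rfl rfl, h25, lab_eta]
  have hpts : ∀ e, e < 324 → S.φ h (pt (D e)) = pt (D e) := fun e he => by
    rw [(S.act_spec hh he).2]; exact congrArg (fun x => pt (D x)) (hfix e he)
  -- the point 3
  have h3 : S.φ h (pt 3) = pt 3 := by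
    have hit : ∀ j, (⇑(S.φ h))^[j] (pt 3) = S.φ (h ^ j) (pt 3) := fun j => by
      rw [map_pow, Equiv.Perm.coe_pow]
    refine fixed_of_small hp (by rw [hit, hpow, map_one, Equiv.Perm.one_apply]) cand3
      (fun j => (hit j).symm ▸ S.apply_three fun e he => ?_) ?_
    · rw [map_pow, Equiv.Perm.coe_pow]
      exact Function.iterate_fixed (hpts e he) j
    · exact lt_of_le_of_lt Finset.card_le_three (by omega)
  exact S.eq_one_of_fix hpts h3

theorem isSolvable_stab : IsSolvable S.stab := by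
  haveI := Fi23.finite_grp
  have hprimes : ∀ q : ℕ, q.Prime → q ∣ Nat.card S.stab → q = 2 ∨ q = 3 := by
    intro q hq hd
    haveI := Fact.mk hq
    obtain ⟨x, hx⟩ := exists_prime_orderOf_dvd_card' q hd
    by_contra hcon
    have h5 : 5 ≤ q := by
      have := hq.two_le
      by_contra h
      have h4 : q = 4 := by omega
      subst h4
      norm_num at hq
    have h1 : (x : G) = 1 := S.eq_one_of_prime x.2 hq h5 (by
      rw [← Subgroup.coe_pow, ← hx, pow_orderOf_eq_one, Subgroup.coe_one])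
    have h2 : orderOf x = 1 := orderOf_eq_one_iff.2 (Subtype.ext h1)
    exact hq.one_lt.ne' (hx.symm.trans h2)
  have hn : Nat.card S.stab ≠ 0 := Nat.card_pos.ne'
  have hcard : Nat.card S.stab =
      2 ^ (Nat.card S.stab).factorization 2 * 3 ^ (Nat.card S.stab).factorization 3 := by
    refine Nat.eq_of_factorization_eq hn (by positivity) fun q => ?_
    rw [Nat.factorization_mul (by positivity) (by positivity), Nat.prime_two.factorization_pow,
      Nat.prime_three.factorization_pow, Finsupp.add_apply]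
    by_cases h2 : q = 2
    · subst h2; simp
    by_cases h3 : q = 3
    · subst h3; simp
    rw [Finsupp.single_eq_of_ne h2, Finsupp.single_eq_of_ne h3, add_zero]
    by_contra hq
    rw [Nat.factorization_eq_zero_iff] at hq
    push Not at hq
    rcases hprimes q hq.1 hq.2.1 with h | h
    · exact h2 h
    · exact h3 h
  exact CfsgLib.Characters.isSolvable_of_card_eq_primePow_mul 2 3 _ _ Nat.prime_two Nat.prime_three (dvd_of_eq hcard)

/-- The subgroups of the derived series, in the whole group. -/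
def ser (k : ℕ) : Subgroup G := (derivedSeries S.stab k).map S.stab.subtype

theorem commutator_mem_ser {k : ℕ} {a b : G} (ha : a ∈ S.ser k) (hb : b ∈ S.ser k) :
    ⁅a, b⁆ ∈ S.ser (k + 1) := by
  obtain ⟨a', ha', rfl⟩ := ha
  obtain ⟨b', hb', rfl⟩ := hb
  refine ⟨⁅a', b'⁆, ?_, map_commutatorElement _ _ _⟩
  rw [derivedSeries_succ]
  exact Subgroup.commutator_mem_commutator ha' hb'

/-- The pointwise stabiliser of the 324 points. -/
def ptFix : Subgroup G where
  carrier := {g | ∀ e, e < 324 → S.φ g (pt (D e)) = pt (D e)}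
  one_mem' e _ := by rw [map_one, Equiv.Perm.one_apply]
  mul_mem' {a b} ha hb e he := by rw [map_mul, Equiv.Perm.mul_apply, hb e he, ha e he]
  inv_mem' {a} ha e he := by rw [map_inv, Equiv.Perm.inv_eq_iff_eq, ha e he]

theorem card_ptFix : Nat.card S.ptFix ≤ 3 := by
  have hinj : Function.Injective fun z : S.ptFix =>
      (⟨S.φ (z : G) (pt 3), S.apply_three z.2⟩ : cand3) := by
    intro x y hxy
    have h1 : S.φ (x : G) (pt 3) = S.φ (y : G) (pt 3) := congrArg Subtype.val hxy
    have h2 : (y : G)⁻¹ * x = 1 := S.eq_one_of_fix (mul_mem (inv_mem y.2) x.2) (by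
      rw [map_mul, Equiv.Perm.mul_apply, map_inv, Equiv.Perm.inv_eq_iff_eq, h1])
    exact Subtype.ext (inv_mul_eq_one.1 h2).symm
  refine (Nat.card_le_card_of_injective _ hinj).trans ?_
  rw [Nat.card_eq_finsetCard]
  exact Finset.card_le_three

theorem ptFix_conj {g z : G} (hg : g ∈ S.stab) (hz : z ∈ S.ptFix) : g * z * g⁻¹ ∈ S.ptFix := by
  intro e he
  have hb : bit allB (S.φ g⁻¹ (pt (D e))) = true := by
    rw [(inv_mem hg : g⁻¹ ∈ S.stab), pt_val (D_lt he).1]
    exact (D_lt he).2.1
  obtain ⟨a, ha, hDa⟩ := all_mem (lt_of_pt _) hb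
  have h1 : S.φ g⁻¹ (pt (D e)) = pt (D a) := by rw [hDa, pt_coe]
  rw [map_mul, map_mul, Equiv.Perm.mul_apply, Equiv.Perm.mul_apply, h1, hz a ha, ← h1,
    ← Equiv.Perm.mul_apply, ← map_mul, mul_inv_cancel, map_one, Equiv.Perm.one_apply]

theorem ptFix_zpowers {z : G} (hz : z ∈ S.ptFix) (hz1 : z ≠ 1) {y : G} (hy : y ∈ S.ptFix) :
    ∃ i : ℤ, z ^ i = y := by
  haveI := Fi23.finite_grp
  have h1 : Subgroup.zpowers z = S.ptFix := by
    refine Subgroup.eq_of_le_of_card_ge (Subgroup.zpowers_le.2 hz) ?_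
    have hd : Nat.card (Subgroup.zpowers z) ∣ Nat.card S.ptFix :=
      Subgroup.card_dvd_of_le (Subgroup.zpowers_le.2 hz)
    have h2 : 2 ≤ Nat.card (Subgroup.zpowers z) := by
      rw [Nat.card_zpowers]
      have := orderOf_pos z
      have : orderOf z ≠ 1 := fun h => hz1 (orderOf_eq_one_iff.1 h)
      omega
    obtain ⟨k, hk⟩ := hd
    have := S.card_ptFix
    have hpos : 0 < Nat.card S.ptFix := Nat.card_pos
    rcases k with _ | _ | k
    · omega
    · omega
    · nlinarith
  rw [← h1] at hy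
  exact Subgroup.mem_zpowers_iff.1 hy

/-- The first derived subgroup centralises the pointwise stabiliser. -/
theorem ser_commute {k : ℕ} {g z : G} (hg : g ∈ S.ser (k + 1)) (hz : z ∈ S.ptFix) : g * z = z * g := by
  by_cases hz1 : z = 1
  · simp [hz1]
  let C : Subgroup S.stab := (Subgroup.centralizer ({z} : Set G)).comap S.stab.subtype
  suffices hC : derivedSeries S.stab (k + 1) ≤ C by
    obtain ⟨g', hg', rfl⟩ := hg
    exact Subgroup.mem_centralizer_singleton_iff.1 (hC hg')
  refine (derivedSeries_antitone _ (show 1 ≤ k + 1 by omega)).trans ?_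
  rw [derivedSeries_succ, derivedSeries_zero, Subgroup.commutator_le]
  intro a _ b _
  have hab : ∀ (x y : G) (u v : ℤ), z ^ u = x * z * x⁻¹ → z ^ v = y * z * y⁻¹ →
      x * y * z * (x * y)⁻¹ = z ^ (u * v) := by
    intro x y u v hu hv
    rw [zpow_mul, hu, conj_zpow, hv]
    group
  show (⁅a, b⁆ : S.stab).1 ∈ Subgroup.centralizer ({z} : Set G)
  rw [Subgroup.mem_centralizer_singleton_iff]
  show ((a : G) * b * (a : G)⁻¹ * (b : G)⁻¹) * z = z * ((a : G) * b * (a : G)⁻¹ * (b : G)⁻¹)
  have h2 : (a : G)⁻¹ * (b : G)⁻¹ * z * ((b : G) * a) = (b : G)⁻¹ * (a : G)⁻¹ * z * ((a : G) * b) := by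
    obtain ⟨i', hi'⟩ := S.ptFix_zpowers hz hz1 (S.ptFix_conj (inv_mem a.2) hz)
    obtain ⟨j', hj'⟩ := S.ptFix_zpowers hz hz1 (S.ptFix_conj (inv_mem b.2) hz)
    have h3 := (hab _ _ _ _ hi' hj').trans ((mul_comm i' j') ▸ (hab _ _ _ _ hj' hi').symm)
    simpa [mul_assoc] using h3
  calc (a : G) * b * (a : G)⁻¹ * (b : G)⁻¹ * z
      = (a : G) * b * ((a : G)⁻¹ * (b : G)⁻¹ * z * ((b : G) * a)) * ((b : G) * a)⁻¹ := by group
    _ = _ := by rw [h2]; group

theorem lab_prod {g : ℕ → G} {P : ℕ → ℕ} : ∀ I : List ℕ, (∀ t ∈ I, S.Lab (g t) (P t)) →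
    ∀ e, e < 324 → compAll (I.map P) e < 324 ∧
      S.φ (I.map g).prod (pt (D e)) = pt (D (compAll (I.map P) e))
  | [], _, e, he => ⟨he, by simp [compAll]⟩
  | t :: I, h, e, he => by
    obtain ⟨h1, h2⟩ := lab_prod I (fun s hs => h s (List.mem_cons_of_mem _ hs)) e he
    obtain ⟨h3, h4⟩ := h t List.mem_cons_self _ h1
    refine ⟨by simpa [compAll, force_eq] using h3, ?_⟩
    rw [List.map_cons, List.prod_cons, map_mul, Equiv.Perm.mul_apply, h2, h4]
    simp [compAll, force_eq]

theorem lab_inv {g : G} {P : ℕ} (h : S.Lab g P) {Q : ℕ}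
    (hQ : ∀ e, e < 324 → ext Q e < 324 ∧ ext P (ext Q e) = e) : S.Lab g⁻¹ Q := by
  intro e he
  obtain ⟨h1, h2⟩ := hQ e he
  refine ⟨h1, ?_⟩
  rw [map_inv, Equiv.Perm.inv_eq_iff_eq, (h _ h1).2, h2]

/-- The tables are realised in a term of the derived series. -/
def RealAt (k : ℕ) (T : List (ℕ × ℕ)) : Prop :=
  ∀ t, t < T.length → ∃ g ∈ S.ser k, S.Lab g (fwd T t) ∧ S.Lab g⁻¹ (bwd T t)

theorem tab_spec {seq : List ℕ} {P Q : ℕ} (h : tabOK seq P Q = true) {g : G}
    (hg : ∀ e, e < 324 → compAll seq e < 324 ∧ S.φ g (pt (D e)) = pt (D (compAll seq e))) :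
    S.Lab g P ∧ S.Lab g⁻¹ Q := by
  simp only [tabOK, List.all_eq_true, List.mem_range, force_eq, Bool.and_eq_true, Nat.blt_eq,
    Nat.beq_eq] at h
  have hP : S.Lab g P := fun e he => by rw [← (h e he).1]; exact hg e he
  exact ⟨hP, S.lab_inv hP fun e he => (h e he).2⟩

theorem real_base : S.RealAt 0 tabs0 := by
  intro t ht
  rw [tabs0, List.length_map] at ht
  have hx := List.all_eq_true.1 base_ok _ (List.getElem_mem ht)
  simp only [Bool.and_eq_true, List.all_eq_true, Nat.blt_eq] at hx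
  have hl := S.lab_prod (g := fun m => gw (mov m)) (P := tabM) wit0[t].1
    fun m hm => S.lab_mov (hx.1 m hm)
  obtain ⟨hP, hQ⟩ := S.tab_spec hx.2 hl
  have hf : tabs0.getD t (0, 0) = wit0[t].2 := by
    rw [tabs0, List.getD_eq_getElem _ _ (by rwa [List.length_map]), List.getElem_map]
  refine ⟨(wit0[t].1.map fun m => gw (mov m)).prod, ⟨⟨_, S.mem_stab_of_lab hP⟩, ?_, rfl⟩,
    by rwa [fwd, hf], by rwa [bwd, hf]⟩
  rw [derivedSeries_zero]
  exact Subgroup.mem_top _

theorem real_step {k : ℕ} {T : List (ℕ × ℕ)} (hT : S.RealAt k T)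
    {L : List (List ℕ × List ℕ × ℕ × ℕ)} (hL : levelOK T L = true) : S.RealAt (k + 1) (tabsOf L) := by
  classical
  intro t ht
  rw [tabsOf, List.length_map] at ht
  have hx := List.all_eq_true.1 hL _ (List.getElem_mem ht)
  simp only [Bool.and_eq_true, List.all_eq_true, Nat.blt_eq, List.mem_append] at hx
  let g : ℕ → G := fun s => if h : s < T.length then (hT s h).choose else 1
  have hg : ∀ s, s < T.length → g s ∈ S.ser k ∧ S.Lab (g s) (fwd T s) ∧ S.Lab (g s)⁻¹ (bwd T s) :=
    fun s hs => by simp only [g, dif_pos hs]; exact (hT s hs).choose_spec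
  have hI : ∀ s ∈ L[t].1, s < T.length := fun s hs => hx.1 s (Or.inl hs)
  have hJ : ∀ s ∈ L[t].2.1, s < T.length := fun s hs => hx.1 s (Or.inr hs)
  set a := (L[t].1.map g).prod with ha
  set b := (L[t].2.1.map g).prod with hb
  have hla := S.lab_prod L[t].1 fun s hs => (hg s (hI s hs)).2.1
  have hlb := S.lab_prod L[t].2.1 fun s hs => (hg s (hJ s hs)).2.1
  have hla' := S.lab_prod (g := fun s => (g s)⁻¹) L[t].1.reverse
    fun s hs => (hg s (hI s (List.mem_reverse.1 hs))).2.2
  have hlb' := S.lab_prod (g := fun s => (g s)⁻¹) L[t].2.1.reverse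
    fun s hs => (hg s (hJ s (List.mem_reverse.1 hs))).2.2
  rw [inv_prod_rev, ← ha] at hla'
  rw [inv_prod_rev, ← hb] at hlb'
  obtain ⟨hP, hQ⟩ := S.tab_spec hx.2 (g := ⁅a, b⁆) (fun e he => by
    obtain ⟨h1, h2⟩ := hlb' e he
    obtain ⟨h3, h4⟩ := hla' _ h1
    obtain ⟨h5, h6⟩ := hlb _ h3
    obtain ⟨h7, h8⟩ := hla _ h5
    simp only [commSeq, compAll_append]
    refine ⟨h7, ?_⟩
    rw [commutatorElement_def, map_mul, map_mul, map_mul, Equiv.Perm.mul_apply,
      Equiv.Perm.mul_apply, Equiv.Perm.mul_apply, h2, h4, h6, h8])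
  have hser : ⁅a, b⁆ ∈ S.ser (k + 1) := by
    refine S.commutator_mem_ser (list_prod_mem fun y hy => ?_) (list_prod_mem fun y hy => ?_)
    · obtain ⟨s, hs, rfl⟩ := List.mem_map.1 hy
      exact (hg s (hI s hs)).1
    · obtain ⟨s, hs, rfl⟩ := List.mem_map.1 hy
      exact (hg s (hJ s hs)).1
  have hf : (tabsOf L).getD t (0, 0) = L[t].2.2 := by
    rw [tabsOf, List.getD_eq_getElem _ _ (by rwa [List.length_map]), List.getElem_map]
  exact ⟨_, hser, by rwa [fwd, hf], by rwa [bwd, hf]⟩

theorem derivedSeries_nine_ne_bot : derivedSeries S.stab 9 ≠ ⊥ := by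
  classical
  intro hbot
  have h8 : S.RealAt 8 (tabsOf wit8) :=
    S.real_step (S.real_step (S.real_step (S.real_step (S.real_step (S.real_step (S.real_step
      (S.real_step S.real_base level_ok1) level_ok2) level_ok3) level_ok4) level_ok5) level_ok6)
      level_ok7) level_ok8
  let g : ℕ → G := fun s => if h : s < (tabsOf wit8).length then (h8 s h).choose else 1
  have hg : ∀ s, s < (tabsOf wit8).length → g s ∈ S.ser 8 ∧ S.Lab (g s) (fwd (tabsOf wit8) s) :=
    fun s hs => by
      simp only [g, dif_pos hs]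
      exact ⟨(h8 s hs).choose_spec.1, (h8 s hs).choose_spec.2.1⟩
  have hidx : ∀ s ∈ topI ++ topJ, s < (tabsOf wit8).length := fun s hs =>
    Nat.blt_eq.mp (List.all_eq_true.1 top_idx s hs)
  have key : ∀ I w, (∀ s ∈ I, s < (tabsOf wit8).length) → wordLt w = true →
      (∀ e, e < 324 → topEntry I w e = true) →
      ∃ u ∈ S.ser 8, ∃ z ∈ S.ptFix, gw w = u * z := by
    intro I w hI hw htop
    refine ⟨(I.map g).prod, list_prod_mem fun y hy => ?_, (I.map g).prod⁻¹ * gw w, fun e he => ?_,
      by group⟩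
    · obtain ⟨s, hs, rfl⟩ := List.mem_map.1 hy
      exact (hg s (hI s hs)).1
    · obtain ⟨h1, h2⟩ := S.lab_prod I (fun s hs => (hg s (hI s hs)).2) e he
      have h3 := htop e he
      unfold topEntry at h3
      rw [show Nat.blt e 324 = true by simpa using he, cond_true] at h3
      have h4 : S.φ (gw w) (pt (D e)) = S.φ (I.map g).prod (pt (D e)) := by
        rw [h2]
        exact Fin.ext (by rw [S.phi_gw w hw _ (D_lt he).1, Nat.eq_of_beq_eq_true h3, pt_val (D_lt h1).1])
      rw [map_mul, Equiv.Perm.mul_apply, map_inv, Equiv.Perm.inv_eq_iff_eq, h4]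
  have hlt := topA_lt
  rw [Bool.and_eq_true] at hlt
  obtain ⟨u, hu, z, hz, hA⟩ := key topI topA (fun s hs => hidx s (List.mem_append_left _ hs)) hlt.1
    fun e he => allR_spec 9 0 topA_ok e (Nat.zero_le _) (by omega)
  obtain ⟨v, hv, y, hy, hB⟩ := key topJ topB (fun s hs => hidx s (List.mem_append_right _ hs)) hlt.2
    fun e he => allR_spec 9 0 topB_ok e (Nat.zero_le _) (by omega)
  have hzy : z * y = y * z := by
    by_cases hz1 : z = 1
    · simp [hz1]
    obtain ⟨i, rfl⟩ := S.ptFix_zpowers hz hz1 hy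
    exact (Commute.self_zpow z i).eq
  have hone : ⁅gw topA, gw topB⁆ = 1 := by
    have huv : ⁅u, v⁆ = 1 := by
      have := S.commutator_mem_ser hu hv
      rwa [ser, hbot, Subgroup.map_bot, Subgroup.mem_bot] at this
    have c1 : Commute u v := commutatorElement_eq_one_iff_commute.1 huv
    have c2 : Commute u y := S.ser_commute (k := 7) hu hy
    have c3 : Commute v z := S.ser_commute (k := 7) hv hz
    have c4 : Commute z y := hzy
    rw [hA, hB, commutatorElement_eq_one_iff_commute]
    exact ((c1.mul_right c2).mul_left (c3.symm.mul_right c4))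
  obtain ⟨q, hq, hne⟩ := List.any_eq_true.1 top_ne
  obtain ⟨k, hk, rfl⟩ := gpt_mem hq
  have hcw : wordLt (commWord topA topB) = true := by
    have h1 := hlt.1
    have h2 := hlt.2
    simp only [wordLt, List.all_eq_true] at h1 h2 ⊢
    intro c hc
    simp only [commWord, List.mem_append, List.mem_reverse] at hc
    rcases hc with ((hc | hc) | hc) | hc
    exacts [h2 c hc, h1 c hc, h2 c hc, h1 c hc]
  have := S.phi_gw _ hcw (gpF k) (lt_of_pt _)
  rw [gw_commWord, hone, map_one, Equiv.Perm.one_apply, pt_coe] at this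
  rw [← this, Nat.beq_refl] at hne
  simp at hne

end Act

end

end CfsgLib.Fi23Max
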