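import Cfsg.Agent.Fi23Max.Points
import Cfsg.Agent.Fi23Max.MiscCheck
import Cfsg.Agent.Fi23Max.MoveCheck
import Cfsg.Agent.Fi23Max.CoverCheck
import Cfsg.Agent.Fi23Max.Labels

/-!
The stabiliser of the 324 points in `Fi₂₃`: it is a maximal subgroup, and its ninth derived
subgroup is nontrivial.
-/

set_option autoImplicit false
set_option maxRecDepth 100000
set_option exponentiation.threshold 700000
set_option linter.unusedSectionVars false

namespace CfsgLib.Fi23Max

open CfsgLib.CosetEnum
open scoped commutatorElement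

noncomputable section

/-- A number as a point. -/
def pt (c : ℕ) : Fin N := if h : c < 31671 then ⟨c, h⟩ else pa

theorem pt_val {c : ℕ} (h : c < 31671) : (pt c : ℕ) = c := by rw [pt, dif_pos h]

theorem pt_coe (i : Fin N) : pt (i : ℕ) = i := Fin.ext (pt_val (lt_of_pt i))

/-- The element of a word of transpositions, applied from the left of the word. -/
def gw : List ℕ → G
  | [] => 1
  | c :: w => gw w * d (pt c)

theorem gw_append : ∀ u v : List ℕ, gw (u ++ v) = gw v * gw u
  | [], v => by simp [gw]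
  | c :: u, v => by simp only [List.cons_append, gw, gw_append u v, mul_assoc]

theorem gw_reverse : ∀ w : List ℕ, gw w.reverse = (gw w)⁻¹
  | [] => by simp [gw]
  | c :: w => by simp [gw_append, gw_reverse w, gw, d_inv]

theorem gw_commWord (a b : List ℕ) : gw (commWord a b) = ⁅gw a, gw b⁆ := by
  simp only [commWord, gw_append, gw_reverse, commutatorElement_def]
  group

theorem app_append : ∀ (u v : List ℕ) (x : ℕ), app (u ++ v) x = app v (app u x)
  | [], _, _ => rfl
  | c :: u, v, x => by simp only [List.cons_append, app, force_eq, app_append u v]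

theorem getD_gpt_lt (k : ℕ) : gpt.getD k 0 < 31671 := by
  by_cases h : k < 10
  · interval_cases k <;> decide
  · rw [List.getD_eq_default _ _ (show gpt.length ≤ k by simp [gpt]; omega)]
    norm_num

/-- The point of a generator. -/
def gpF (k : ℕ) : Fin N := ⟨gpt.getD k 0, getD_gpt_lt k⟩

theorem gpt_mem {g : ℕ} (h : g ∈ gpt) : ∃ k, k < 10 ∧ (gpF k : ℕ) = g := by
  obtain ⟨k, hk, rfl⟩ := List.getElem_of_mem h
  exact ⟨k, hk, List.getD_eq_getElem _ _ hk⟩

theorem gpF_mem {k : ℕ} (hk : k < 10) : (gpF k : ℕ) ∈ gpt := by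
  show gpt.getD k 0 ∈ gpt
  rw [List.getD_eq_getElem _ _ (show k < gpt.length from hk)]
  exact List.getElem_mem _

theorem bit_lor_shift {B r i : ℕ} (h : bit (Nat.lor B (Nat.shiftLeft 1 r)) i = true) :
    bit B i = true ∨ i = r := by
  rw [bit_eq] at h ⊢
  change Nat.testBit (B ||| 1 <<< r) i = true at h
  rw [Nat.testBit_or, Bool.or_eq_true, Nat.one_shiftLeft, Nat.testBit_two_pow, decide_eq_true_eq] at h
  exact h.imp id Eq.symm

theorem closeB_spec {Q : ℕ → Prop} (hQ : ∀ p q, Q p → Q q → Q (mv p q)) :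
    ∀ (s : List (ℕ × ℕ)) (B : ℕ), (∀ i, bit B i = true → Q i) →
      ∀ i, bit (closeB s B) i = true → Q i
  | [], B, hB => hB
  | (p, q) :: s, B, hB => by
    show ∀ i, bit (bif bit B p && bit B q then _ else _) i = true → Q i
    cases hc : (bit B p && bit B q)
    · exact closeB_spec hQ s B hB
    · rw [cond_true, force_eq]
      simp only [Bool.and_eq_true] at hc
      refine closeB_spec hQ s _ fun i hi => ?_
      rcases bit_lor_shift hi with h | rfl
      · exact hB i h
      · exact hQ p q (hB p hc.1) (hB q hc.2)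

/-- A property closed under the moves holding at the 324 points and at 3 holds at the points of
the generators. -/
theorem deriv_spec {Q : ℕ → Prop} (hQ : ∀ p q, Q p → Q q → Q (mv p q))
    (hall : ∀ i, bit allB i = true → Q i) (h3 : Q 3) {g : ℕ} (hg : g ∈ gpt) : Q g := by
  have h := deriv_ok
  rw [derivOK, force_eq, List.all_eq_true] at h
  refine closeB_spec hQ steps start (fun i hi => ?_) g (h g hg)
  rcases bit_lor_shift hi with h' | rfl
  · exact hall i h'
  · exact h3

theorem allB_lt {i : ℕ} (h : bit allB i = true) : i < 31671 := by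
  by_contra hi
  rw [bit_eq, Nat.testBit_eq_decide_div_mod_eq, decide_eq_true_eq] at h
  have hb : allB < 2 ^ 31671 := by decide +kernel
  rw [Nat.div_eq_of_lt (hb.trans_le (Nat.pow_le_pow_right (by norm_num) (by omega)))] at h
  simp at h

theorem wordLt_mov (m : ℕ) : wordLt (mov m) = true := by
  by_cases hm : m < moves.length
  · rw [mov, List.getD_eq_getElem _ _ hm]
    exact List.all_eq_true.1 moves_lt _ (List.getElem_mem _)
  · rw [mov, List.getD_eq_default _ _ (by omega)]
    rfl

namespace Act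

variable (S : Act)
include S

theorem d_gpF_step {x y : ℕ} (h : (x, y) ∈ chain) (hx : x < 10) (hy : y < 10)
    (hd : d (gpF x) = Fi23.setup.g x) : d (gpF y) = Fi23.setup.g y := by
  have h1 := List.all_eq_true.mp chain_ok _ h
  simp only [Bool.and_eq_true, Nat.beq_eq, decide_eq_true_eq] at h1
  obtain ⟨h1, hw1, hw2, hw3⟩ := h1
  have hb := Fi23.braid hw1 hw2 hw3
  have hinv : (prodw Fi23.setup.g [y, x])⁻¹ = Fi23.setup.g x * Fi23.setup.g y := by
    rw [← rev_word [y, x] (by intro z hz; simp at hz; rcases hz with rfl | rfl <;> assumption)]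
    simp [prodw]
  have hp : S.φ (Fi23.setup.g x * Fi23.setup.g y) (gpF x) = gpF y := by
    rw [← hinv, map_inv]
    exact Fin.ext ((S.spec [y, x] (by intro z hz; simp at hz; rcases hz with rfl | rfl <;> assumption)
      (gpF x)).trans h1)
  rw [S.d_conj hp, hd, hb]
  group

theorem d_gpF {k : ℕ} (hk : k < 10) : d (gpF k) = Fi23.setup.g k := by
  have e0 : d (gpF 0) = Fi23.setup.g 0 := by rw [show gpF 0 = pa from Fin.ext rfl, S.d_pa]; rfl
  have e1 := S.d_gpF_step (x := 0) (y := 1) (by decide) (by norm_num) (by norm_num) e0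
  have e2 := S.d_gpF_step (x := 1) (y := 2) (by decide) (by norm_num) (by norm_num) e1
  have e3 := S.d_gpF_step (x := 2) (y := 3) (by decide) (by norm_num) (by norm_num) e2
  have e4 := S.d_gpF_step (x := 3) (y := 4) (by decide) (by norm_num) (by norm_num) e3
  have e5 := S.d_gpF_step (x := 4) (y := 5) (by decide) (by norm_num) (by norm_num) e4
  have e6 := S.d_gpF_step (x := 5) (y := 6) (by decide) (by norm_num) (by norm_num) e5
  have e7 := S.d_gpF_step (x := 6) (y := 7) (by decide) (by norm_num) (by norm_num) e6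
  have e8 := S.d_gpF_step (x := 3) (y := 8) (by decide) (by norm_num) (by norm_num) e3
  have e9 := S.d_gpF_step (x := 8) (y := 9) (by decide) (by norm_num) (by norm_num) e8
  interval_cases k <;> assumption

theorem closure_gpF {K : Subgroup G} (h : ∀ k, k < 10 → d (gpF k) ∈ K) : K = ⊤ := by
  refine eq_top_iff.2 ?_
  rw [← Fi23.setup.letSub_all (List.range 10) (fun x hx => List.mem_range.mpr hx)]
  refine (Subgroup.closure_le _).mpr ?_
  rintro _ ⟨x, hx, rfl⟩
  have hx9 : x < 10 := List.mem_range.mp hx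
  have := h x hx9
  rw [S.d_gpF hx9] at this
  simpa [prodw] using this

theorem eq_one_of_comm {t : G} (h : ∀ k, k < 10 → S.φ t (gpF k) = gpF k) : t = 1 := by
  haveI := Fi23.finite_grp
  haveI : IsSimpleGroup G := Fi23.isSimpleGroup_Fi23
  have hc : t ∈ Subgroup.center G := by
    have h1 : Subgroup.centralizer ({t} : Set G) = ⊤ := S.closure_gpF fun k hk => by
      rw [Subgroup.mem_centralizer_singleton_iff]
      exact ((S.commute_iff t (gpF k)).2 (h k hk)).eq.symm
    rw [Subgroup.mem_center_iff]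
    intro y
    have hy : y ∈ Subgroup.centralizer ({t} : Set G) := h1 ▸ Subgroup.mem_top y
    rw [Subgroup.mem_centralizer_singleton_iff] at hy
    exact hy
  rcases (inferInstance : (Subgroup.center G).Normal).eq_bot_or_eq_top with h' | h'
  · rw [h'] at hc
    exact Subgroup.mem_bot.mp hc
  · exfalso
    letI : CommGroup G := Group.commGroupOfCenterEqTop h'
    have hp : (Nat.card G).Prime := IsSimpleGroup.prime_card
    rw [S.card] at hp
    exact absurd hp (by norm_num)

theorem phi_d_pt {c x : ℕ} (hc : c < 31671) (hx : x < 31671) :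
    ((S.φ (d (pt c)) (pt x) : Fin N) : ℕ) = mv c x := by
  rw [S.phi_d, pt_val hc, pt_val hx]

theorem phi_gw : ∀ (w : List ℕ), wordLt w = true → ∀ x : ℕ, x < 31671 →
    ((S.φ (gw w) (pt x) : Fin N) : ℕ) = app w x
  | [], _, x, hx => by simp [gw, app, pt_val hx]
  | c :: w, hw, x, hx => by
    simp only [wordLt, List.all_cons, Bool.and_eq_true] at hw
    have hc : c < 31671 := by simpa using hw.1
    have h1 := S.phi_d_pt hc hx
    have hy : mv c x < 31671 := h1 ▸ lt_of_pt _
    have h2 : S.φ (d (pt c)) (pt x) = pt (mv c x) := Fin.ext (h1.trans (pt_val hy).symm)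
    rw [gw, map_mul, Equiv.Perm.mul_apply, h2, phi_gw w (by simpa [wordLt] using hw.2) _ hy]
    simp [app, force_eq]

/-- The subgroup preserving the 324 points. -/
def stab : Subgroup G where
  carrier := {g | ∀ p : Fin N, bit allB (S.φ g p) = bit allB p}
  one_mem' p := by rw [map_one, Equiv.Perm.one_apply]
  mul_mem' {a b} ha hb p := by rw [map_mul, Equiv.Perm.mul_apply, ha, hb]
  inv_mem' {a} ha p := by
    conv_rhs => rw [show p = S.φ a (S.φ a⁻¹ p) by rw [map_inv, Equiv.Perm.inv_def, Equiv.apply_symm_apply]]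
    rw [ha]

theorem mem_stab {g : G} (h : ∀ e, e < 324 → bit allB (S.φ g (pt (D e))) = true) : g ∈ S.stab := by
  haveI := Fi23.finite_grp
  have hfwd : ∀ (n : ℕ) (p : Fin N), bit allB p = true → bit allB (S.φ (g ^ n) p) = true := by
    intro n
    induction n with
    | zero => intro p hp; rwa [pow_zero, map_one, Equiv.Perm.one_apply]
    | succ n ih =>
      intro p hp
      obtain ⟨e, he, hep⟩ := all_mem (lt_of_pt p) hp
      rw [pow_succ, map_mul, Equiv.Perm.mul_apply]
      refine ih _ ?_
      have := h e he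
      rwa [hep, pt_coe] at this
  intro p
  rw [Bool.eq_iff_iff]
  refine ⟨fun hp => ?_, fun hp => by simpa using hfwd 1 p hp⟩
  have h1 := hfwd (orderOf g - 1) _ hp
  rw [← Equiv.Perm.mul_apply, ← map_mul, ← pow_succ,
    Nat.sub_add_cancel (orderOf_pos g), pow_orderOf_eq_one, map_one, Equiv.Perm.one_apply] at h1
  exact h1

/-- The element acts on the labels by the table. -/
def Lab (g : G) (P : ℕ) : Prop :=
  ∀ e, e < 324 → ext P e < 324 ∧ S.φ g (pt (D e)) = pt (D (ext P e))

theorem lab_mov {m : ℕ} (hm : m < 17) : S.Lab (gw (mov m)) (tabM m) := by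
  intro e he
  have h1 : 0 ≤ e := Nat.zero_le _
  have h2 : e < 0 + 2 ^ 9 := by omega
  have key : moveEntry m e = true := by
    interval_cases m
    · exact allR_spec 9 0 move_ok0 e h1 h2
    · exact allR_spec 9 0 move_ok1 e h1 h2
    · exact allR_spec 9 0 move_ok2 e h1 h2
    · exact allR_spec 9 0 move_ok3 e h1 h2
    · exact allR_spec 9 0 move_ok4 e h1 h2
    · exact allR_spec 9 0 move_ok5 e h1 h2
    · exact allR_spec 9 0 move_ok6 e h1 h2
    · exact allR_spec 9 0 move_ok7 e h1 h2
    · exact allR_spec 9 0 move_ok8 e h1 h2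
    · exact allR_spec 9 0 move_ok9 e h1 h2
    · exact allR_spec 9 0 move_ok10 e h1 h2
    · exact allR_spec 9 0 move_ok11 e h1 h2
    · exact allR_spec 9 0 move_ok12 e h1 h2
    · exact allR_spec 9 0 move_ok13 e h1 h2
    · exact allR_spec 9 0 move_ok14 e h1 h2
    · exact allR_spec 9 0 move_ok15 e h1 h2
    · exact allR_spec 9 0 move_ok16 e h1 h2
  unfold moveEntry at key
  rw [show Nat.blt e 324 = true by simpa using he, cond_true, force_eq] at key
  simp only [Bool.and_eq_true, Nat.blt_eq, Nat.beq_eq] at key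
  exact ⟨key.1, Fin.ext (by rw [S.phi_gw _ (wordLt_mov m) _ (D_lt he).1, key.2, pt_val (D_lt key.1).1])⟩

theorem mem_stab_of_lab {g : G} {P : ℕ} (h : S.Lab g P) : g ∈ S.stab :=
  S.mem_stab fun e he => by
    rw [(h e he).2, pt_val (D_lt (h e he).1).1]
    exact (D_lt (h e he).1).2.1

theorem gw_mov_mem_stab {m : ℕ} (hm : m < 20) : gw (mov m) ∈ S.stab := by
  by_cases h17 : m < 17
  · exact S.mem_stab_of_lab (S.lab_mov h17)
  · have hrev : mov m = (mov (m - 3)).reverse := by
      interval_cases m <;> first | omega | decide +kernel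
    rw [hrev, gw_reverse]
    exact inv_mem (S.mem_stab_of_lab (S.lab_mov (by omega)))

theorem d_mem_stab {e : ℕ} (he : e < 324) : d (pt (D e)) ∈ S.stab :=
  S.mem_stab fun f hf => by
    rw [S.phi_d_pt (D_lt he).1 (D_lt hf).1]
    obtain ⟨-, h, -⟩ := pair_spec he hf
    have hlt : mv (D e) (D f) < 31671 := S.phi_d_pt (D_lt he).1 (D_lt hf).1 ▸ lt_of_pt _
    obtain ⟨a, ha, -, h'⟩ := part_mem (opI_lt _ _) hlt h
    exact h' ▸ (D_lt ha).2.1

theorem stab_ne_top : S.stab ≠ ⊤ := by
  intro h
  obtain ⟨y, hy⟩ : ∃ y : G, S.φ y (pt (D 0)) = pt 0 := by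
    refine ⟨(prodw Fi23.setup.g (pw (pt 0)))⁻¹ * ((prodw Fi23.setup.g (pw (pt (D 0))))⁻¹)⁻¹, ?_⟩
    rw [map_mul, Equiv.Perm.mul_apply, map_inv _ ((prodw Fi23.setup.g (pw (pt (D 0))))⁻¹)]
    rw [show (S.φ (prodw Fi23.setup.g (pw (pt (D 0))))⁻¹)⁻¹ (pt (D 0)) = pa from
      Equiv.Perm.inv_eq_iff_eq.2 (S.pw_root _).symm]
    exact S.pw_root _
  have h1 : y ∈ S.stab := h ▸ Subgroup.mem_top y
  have h2 := h1 (pt (D 0))
  rw [hy, pt_val (D_lt (show (0 : ℕ) < 324 by norm_num)).1,
    (D_lt (show (0 : ℕ) < 324 by norm_num)).2.1, pt_val (show (0 : ℕ) < 31671 by norm_num)] at h2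
  revert h2
  decide +kernel

theorem isCoatom_stab : IsCoatom S.stab := by
  refine ⟨S.stab_ne_top, fun K hK => ?_⟩
  obtain ⟨g, hgK, hg⟩ := SetLike.exists_of_lt hK
  obtain ⟨e, he, hout⟩ : ∃ e, e < 324 ∧ bit allB (S.φ g (pt (D e))) = false := by
    by_contra hcon
    push_neg at hcon
    exact hg (S.mem_stab fun e he => by
      cases hb : bit allB (S.φ g (pt (D e)))
      · exact absurd hb (hcon e he)
      · rfl)
  let Q : ℕ → Prop := fun i => i < 31671 ∧ d (pt i) ∈ K
  have happ : ∀ w : List ℕ, (wordLt w = true ∧ gw w ∈ S.stab) → ∀ i, Q i → Q (app w i) := by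
    rintro w ⟨hw', hw⟩ i hi
    have h1 := S.phi_gw w hw' i hi.1
    refine ⟨h1 ▸ lt_of_pt _, ?_⟩
    rw [S.d_conj (i := pt i) (j := pt (app w i)) (y := gw w)
      (Fin.ext (h1.trans (pt_val (h1 ▸ lt_of_pt _)).symm))]
    exact K.mul_mem (K.mul_mem (hK.le hw) hi.2) (K.inv_mem (hK.le hw))
  have hmv : ∀ p q, Q p → Q q → Q (mv p q) := by
    intro p q hp hq
    have h1 := S.phi_d_pt hp.1 hq.1
    refine ⟨h1 ▸ lt_of_pt _, ?_⟩
    rw [S.d_conj (i := pt q) (j := pt (mv p q)) (y := d (pt p))
      (Fin.ext (h1.trans (pt_val (h1 ▸ lt_of_pt _)).symm))]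
    exact K.mul_mem (K.mul_mem hp.2 hq.2) (K.inv_mem hp.2)
  have hmov : ∀ m, m < 20 → (wordLt (mov m) = true ∧ gw (mov m) ∈ S.stab) :=
    fun m hm => ⟨wordLt_mov m, S.gw_mov_mem_stab hm⟩
  have hall : ∀ i, bit allB i = true → Q i := by
    intro i hi
    obtain ⟨a, ha, rfl⟩ := all_mem (allB_lt hi) hi
    exact ⟨allB_lt hi, hK.le (S.d_mem_stab ha)⟩
  have hdown : ∀ r x, bit allB x = false → x < 31671 →
      ext (parQ (x / 256)) (x % 256) / 32 = r → Q x → Q 0 ∨ Q 3 := by
    intro r
    induction r using Nat.strong_induction_on with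
    | _ r ih =>
    intro x hx hlt hr hq
    have hk : x / 4096 < 8 := by omega
    have h1 : x / 4096 * 4096 ≤ x := Nat.div_mul_le_self x 4096
    have h2 : x < x / 4096 * 4096 + 2 ^ 12 := by omega
    have key : coverEntry x = true := by
      generalize x / 4096 = k at hk h1 h2
      interval_cases k
      · exact allR_spec 12 0 cover_ok0 x h1 h2
      · exact allR_spec 12 4096 cover_ok1 x h1 h2
      · exact allR_spec 12 8192 cover_ok2 x h1 h2
      · exact allR_spec 12 12288 cover_ok3 x h1 h2
      · exact allR_spec 12 16384 cover_ok4 x h1 h2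
      · exact allR_spec 12 20480 cover_ok5 x h1 h2
      · exact allR_spec 12 24576 cover_ok6 x h1 h2
      · exact allR_spec 12 28672 cover_ok7 x h1 h2
    unfold coverEntry at key
    rw [show (Nat.blt x 31671 && !(bit allB x)) = true by simp [hx, hlt], cond_true, force_eq, hr] at key
    cases hr0 : Nat.beq r 0
    · rw [hr0, cond_false, force_eq] at key
      simp only [Bool.and_eq_true, Bool.not_eq_true', Nat.blt_eq] at key
      have hm : ext (parQ (x / 256)) (x % 256) % 32 < 20 := by
        by_contra hm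
        have hnil : mov (ext (parQ (x / 256)) (x % 256) % 32) = [] := by
          rw [mov, List.getD_eq_default]
          have hlen : moves.length = 20 := by decide +kernel
          omega
        rw [hnil] at key
        have := key.2
        simp only [app, List.foldl_nil, hr] at this
        omega
      have hq' := happ _ (hmov _ hm) x hq
      exact ih _ key.2 _ key.1 hq'.1 rfl hq'
    · rw [hr0, cond_true, Bool.or_eq_true] at key
      rcases key with h | h <;> rw [Nat.eq_of_beq_eq_true h] at hq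
      · exact Or.inl hq
      · exact Or.inr hq
  have hx : Q (S.φ g (pt (D e))) := ⟨lt_of_pt _, by
    rw [pt_coe, S.d_conj (i := pt (D e)) (j := S.φ g (pt (D e))) (y := g) rfl]
    exact K.mul_mem (K.mul_mem hgK (hK.le (S.d_mem_stab he))) (K.inv_mem hgK)⟩
  have h3 : Q 3 := by
    rcases hdown _ _ hout (lt_of_pt _) rfl hx with h0 | h0
    · have hl := link_ok
      simp only [Bool.and_eq_true, beq_iff_eq, List.all_eq_true, Nat.blt_eq] at hl
      have h1 := hmv 0 _ h0 (happ _ (hmov linkMove (by decide)) 0 h0)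
      have hpath : ∀ (l : List ℕ) (i : ℕ), (∀ m ∈ l, m < 20) → Q i → Q (app (l.flatMap mov) i) := by
        intro l
        induction l with
        | nil => intro i _ hi; exact hi
        | cons m l ih =>
          intro i hl hi
          rw [List.flatMap_cons, app_append]
          exact ih _ (fun k hk => hl k (List.mem_cons_of_mem _ hk))
            (happ _ (hmov m (hl m List.mem_cons_self)) i hi)
      have h2 := hpath path _ hl.2 h1
      rwa [Nat.eq_of_beq_eq_true hl.1.2] at h2
    · exact h0
  refine S.closure_gpF fun k hk => ?_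
  have := (deriv_spec hmv hall h3 (gpF_mem hk)).2
  rwa [pt_coe] at this

end Act

end

end CfsgLib.Fi23Max
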